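import Groth.Agent.Lib.SBAut21.Descent
import Mathlib.AlgebraicGeometry.Gluing
import Mathlib.AlgebraicGeometry.AffineScheme
import Mathlib.CategoryTheory.Endomorphism
import Mathlib.CategoryTheory.Comma.Over.Basic

/-!
# Automorphisms of a Severi-Brauer scheme from natural automorphisms of its functor of points
-/

universe u

open CategoryTheory CategoryTheory.Limits AlgebraicGeometry
open scoped TensorProduct

namespace GrothLib.SBAut21

noncomputable section

variable {k : Type u} [Field k] {A : Type u} [Ring A] [Algebra k A] {c : ℕ}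
  {X : Scheme.{u}} {p : X ⟶ Spec (CommRingCat.of k)} (s : BrSev.SBStr k A c p)

theorem bij_natural {R S : Type u} [CommRing R] [Algebra k R] [CommRing S] [Algebra k S]
    (φ : R →ₐ[k] S) (g : BrSev.Pts p R) : s.bij S (BrSev.Pts.map p φ g) = sbMap φ (s.bij R g) :=
  Pt.ext' (s.natural R S φ g)

theorem bij_symm_natural {R S : Type u} [CommRing R] [Algebra k R] [CommRing S] [Algebra k S]
    (φ : R →ₐ[k] S) (I : Pt k A c R) :
    (s.bij S).symm (sbMap φ I) = BrSev.Pts.map p φ ((s.bij R).symm I) := by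
  rw [Equiv.symm_apply_eq, bij_natural, Equiv.apply_symm_apply]

variable (p) in
/-- The algebra structure of a point. -/
@[reducible] def ptAlg {R : CommRingCat.{u}} (g : Spec R ⟶ X) : Algebra k R :=
  (Spec.preimage (g ≫ p)).hom.toAlgebra

theorem ptAlg_spec {R : CommRingCat.{u}} (g : Spec R ⟶ X) :
    letI := ptAlg p g
    g ≫ p = Spec.map (CommRingCat.ofHom (algebraMap k R)) :=
  (Spec.map_preimage (g ≫ p)).symm

theorem ptAlg_eq {R : CommRingCat.{u}} [inst : Algebra k R] (g : Spec R ⟶ X)
    (hg : g ≫ p = Spec.map (CommRingCat.ofHom (algebraMap k R))) : ptAlg p g = inst := by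
  refine Algebra.algebra_ext _ _ fun r => ?_
  have h : Spec.preimage (g ≫ p) = CommRingCat.ofHom (algebraMap k R) :=
    Spec.map_injective ((Spec.map_preimage _).trans hg)
  exact DFunLike.congr_fun (congrArg CommRingCat.Hom.hom h) r

/-- The action of a natural endomorphism on a morphism from an affine spectrum. -/
def act (η : NatEnd k A c) (R : CommRingCat.{u}) (g : Spec R ⟶ X) : Spec R ⟶ X :=
  letI := ptAlg p g
  ((s.bij R).symm (η.app R (s.bij R ⟨g, ptAlg_spec g⟩))).1

theorem act_eq (η : NatEnd k A c) {R : CommRingCat.{u}} [inst : Algebra k R] (g : BrSev.Pts p R) :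
    act s η R g.1 = ((s.bij R).symm (η.app R (s.bij R g))).1 := by
  obtain ⟨g, hg⟩ := g
  have h := ptAlg_eq (R := R) g hg
  subst h
  rfl

theorem act_comp (η : NatEnd k A c) (R : CommRingCat.{u}) (g : Spec R ⟶ X) :
    act s η R g ≫ p = g ≫ p := by
  let := ptAlg p g
  exact ((s.bij R).symm (η.app R (s.bij R ⟨g, ptAlg_spec g⟩))).2.trans (ptAlg_spec g).symm

theorem act_map (η : NatEnd k A c) {R S : CommRingCat.{u}} (φ : R ⟶ S) (g : Spec R ⟶ X) :
    act s η S (Spec.map φ ≫ g) = Spec.map φ ≫ act s η R g := by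
  let := ptAlg p g
  let : Algebra k S := (φ.hom.comp (algebraMap k R)).toAlgebra
  let ψ : R →ₐ[k] S := { φ.hom with commutes' := fun r => rfl }
  have h := act_eq s η (BrSev.Pts.map p ψ ⟨g, ptAlg_spec g⟩)
  exact h.trans (congrArg Subtype.val
    (((congrArg (fun I => (s.bij S).symm (η.app S I)) (bij_natural s ψ ⟨g, ptAlg_spec g⟩)).trans
      (congrArg (s.bij S).symm (η.natural ψ _))).trans (bij_symm_natural s ψ _)))

/-- The action on morphisms from affine schemes. -/
def actA (η : NatEnd k A c) {Y : Scheme.{u}} [IsAffine Y] (w : Y ⟶ X) : Y ⟶ X :=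
  Y.isoSpec.hom ≫ act s η Γ(Y, ⊤) (Y.isoSpec.inv ≫ w)

theorem actA_comp (η : NatEnd k A c) {Y : Scheme.{u}} [IsAffine Y] (w : Y ⟶ X) :
    actA s η w ≫ p = w ≫ p := by
  rw [actA, Category.assoc, act_comp, ← Category.assoc, Iso.hom_inv_id_assoc]

theorem actA_map (η : NatEnd k A c) {Y Y' : Scheme.{u}} [IsAffine Y] [IsAffine Y'] (h : Y' ⟶ Y)
    (w : Y ⟶ X) : actA s η (h ≫ w) = h ≫ actA s η w := by
  rw [actA, actA, ← Scheme.isoSpec_inv_naturality_assoc, act_map, Scheme.isoSpec_hom_naturality_assoc]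

/-- The endomorphism of a natural endomorphism of the functor of points. -/
def toEnd (η : NatEnd k A c) : X ⟶ X :=
  X.affineCover.glueMorphisms (fun i => actA s η (X.affineCover.f i)) fun i j => by
    refine Scheme.Cover.hom_ext (pullback (X.affineCover.f i) (X.affineCover.f j)).affineCover _ _ fun l => ?_
    rw [← Category.assoc, ← Category.assoc, ← actA_map, ← actA_map, Category.assoc, Category.assoc,
      pullback.condition]

theorem toEnd_affine (η : NatEnd k A c) {Y : Scheme.{u}} [IsAffine Y] (w : Y ⟶ X) :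
    w ≫ toEnd s η = actA s η w := by
  refine Scheme.Cover.hom_ext (X.affineCover.pullback₁ w) _ _ fun i => ?_
  refine Scheme.Cover.hom_ext (pullback w (X.affineCover.f i)).affineCover _ _ fun l => ?_
  let a := (pullback w (X.affineCover.f i)).affineCover.f l
  show a ≫ pullback.fst w (X.affineCover.f i) ≫ w ≫ toEnd s η =
    a ≫ pullback.fst w (X.affineCover.f i) ≫ actA s η w
  rw [pullback.condition_assoc, toEnd]
  refine (congrArg (fun z => a ≫ pullback.snd w (X.affineCover.f i) ≫ z)
    (Scheme.Cover.ι_glueMorphisms X.affineCover _ _ i)).trans ?_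
  rw [← Category.assoc, ← Category.assoc, ← actA_map, ← actA_map, Category.assoc, Category.assoc,
    pullback.condition]

theorem toEnd_comp (η : NatEnd k A c) : toEnd s η ≫ p = p := by
  refine Scheme.Cover.hom_ext X.affineCover _ _ fun i => ?_
  rw [← Category.assoc, toEnd_affine, actA_comp]

theorem toEnd_pt (η : NatEnd k A c) {R : Type u} [CommRing R] [inst : Algebra k R] (g : BrSev.Pts p R) :
    g.1 ≫ toEnd s η = ((s.bij R).symm (η.app R (s.bij R g))).1 := by
  rw [toEnd_affine, actA, ← act_eq (R := CommRingCat.of R) s η g, Scheme.isoSpec_Spec_inv, act_map,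
    Scheme.isoSpec_Spec_hom, ← Category.assoc, ← Spec.map_comp, Iso.inv_hom_id, Spec.map_id,
    Category.id_comp]

variable {n : ℕ}

/-- Translations. -/
def transl (a : Aˣ) : NatEnd k A c where
  app R _ _ I := rmul (incl R a⁻¹) I
  natural f I := by rw [sbMap_rmul, map_incl]

/-- The natural endomorphism of an endomorphism over the base. -/
def ofEnd (θ : Over.mk p ⟶ Over.mk p) : NatEnd k A c where
  app R _ _ I := s.bij R ⟨((s.bij R).symm I).1 ≫ θ.left, by
    rw [Category.assoc]; exact (congrArg _ (Over.w θ)).trans ((s.bij R).symm I).2⟩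
  natural f I := by
    refine Eq.trans (congrArg (s.bij _) (Subtype.ext ?_)) (bij_natural s f _)
    exact (congrArg (fun z => Subtype.val z ≫ θ.left) (bij_symm_natural s f I)).trans (Category.assoc _ _ _)

theorem hom_ext_pts {θ₁ θ₂ : Over.mk p ⟶ Over.mk p}
    (h : ∀ (R : Type u) [CommRing R] [Algebra k R] (g : BrSev.Pts p R), g.1 ≫ θ₁.left = g.1 ≫ θ₂.left) :
    θ₁ = θ₂ := by
  refine Over.OverMorphism.ext (Scheme.Cover.hom_ext X.affineCover _ _ fun i => ?_)
  let Y := X.affineCover.X i
  let g : Spec Γ(Y, ⊤) ⟶ X := Y.isoSpec.inv ≫ X.affineCover.f i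
  have h1 := @h Γ(Y, ⊤) _ (ptAlg p g) ⟨g, ptAlg_spec g⟩
  exact (cancel_epi Y.isoSpec.inv).mp ((Category.assoc _ _ _).symm.trans (h1.trans (Category.assoc _ _ _)))

/-- The endomorphism over the base of a natural endomorphism. -/
def toOver (η : NatEnd k A c) : Over.mk p ⟶ Over.mk p := Over.homMk (toEnd s η) (toEnd_comp s η)

theorem toOver_pt (η : NatEnd k A c) {R : Type u} [CommRing R] [Algebra k R] (g : BrSev.Pts p R) :
    g.1 ≫ (toOver s η).left = ((s.bij R).symm (η.app R (s.bij R g))).1 := toEnd_pt s η g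

theorem toOver_comp (a b : Aˣ) :
    toOver s (transl (c := c) b) ≫ toOver s (transl a) = toOver s (transl (a * b)) := by
  refine hom_ext_pts fun R _ _ g => ?_
  show g.1 ≫ (toOver s (transl (c := c) b)).left ≫ (toOver s (transl a)).left = _
  rw [← Category.assoc, toOver_pt, toOver_pt, toOver_pt, Equiv.apply_symm_apply]
  show ((s.bij R).symm (rmul (incl R a⁻¹) (rmul (incl R b⁻¹) (s.bij R g)))).1 =
    ((s.bij R).symm (rmul (incl R (a * b)⁻¹) (s.bij R g))).1
  refine congrArg (fun I => ((s.bij R).symm I).1) ?_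
  rw [rmul_rmul, mul_inv_rev, show incl R (b⁻¹ * a⁻¹) = incl R b⁻¹ * incl R a⁻¹ from map_mul _ _ _]

theorem toOver_one : toOver s (transl (c := c) (1 : Aˣ)) = 𝟙 (Over.mk p) := by
  refine hom_ext_pts fun R _ _ g => ?_
  rw [toOver_pt]
  show ((s.bij R).symm (rmul (incl R (1 : Aˣ)⁻¹) (s.bij R g))).1 = g.1 ≫ 𝟙 X
  refine (congrArg (fun I => ((s.bij R).symm I).1) ?_).trans
    ((congrArg Subtype.val ((s.bij R).symm_apply_apply g)).trans (Category.comp_id _).symm)
  rw [inv_one, show incl R (1 : Aˣ) = 1 from map_one _, rmul_one]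

/-- Units act on the scheme. -/
def xi : Aˣ →* Aut (Over.mk p) where
  toFun a :=
    { hom := toOver s (transl a)
      inv := toOver s (transl a⁻¹)
      hom_inv_id := by rw [toOver_comp, inv_mul_cancel, toOver_one]
      inv_hom_id := by rw [toOver_comp, mul_inv_cancel, toOver_one] }
  map_one' := Iso.ext (toOver_one s)
  map_mul' a b := Iso.ext (toOver_comp s a b).symm

theorem xi_hom (a : Aˣ) : (xi s a).hom = toOver s (transl a) := rfl

end

section Main

variable {k : Type u} [Field k] {A : Type u} [Ring A] [Algebra k A] [Algebra.IsCentral k A]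
  [IsSimpleRing A] {n : ℕ} {X : Scheme.{u}} {p : X ⟶ Spec (CommRingCat.of k)}

theorem xi_surjective [FiniteDimensional k A] (s : BrSev.SBStr k A (n * n - n) p) (hn : 0 < n)
    (hA : Module.finrank k A = n * n) : Function.Surjective (xi s) := by
  intro g
  obtain ⟨a, ha⟩ := exists_unit hn hA (ofEnd s g.hom) (ofEnd s g.inv) fun R _ _ I => by
    show s.bij R ⟨((s.bij R).symm (s.bij R ⟨((s.bij R).symm I).1 ≫ g.hom.left, _⟩)).1 ≫ g.inv.left, _⟩ = I
    refine (Equiv.apply_eq_iff_eq_symm_apply _).mpr (Subtype.ext ?_)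
    refine (congrArg (fun z => Subtype.val z ≫ g.inv.left) ((s.bij R).symm_apply_apply _)).trans ?_
    show (((s.bij R).symm I).1 ≫ g.hom.left) ≫ g.inv.left = _
    rw [Category.assoc, ← Over.comp_left, g.hom_inv_id]
    exact Category.comp_id _
  refine ⟨a⁻¹, Iso.ext (hom_ext_pts fun R _ _ gp => ?_)⟩
  rw [xi_hom, toOver_pt]
  show ((s.bij R).symm (rmul (incl R a⁻¹⁻¹) (s.bij R gp))).1 = _
  rw [inv_inv, ← ha R (s.bij R gp)]
  exact (congrArg Subtype.val ((s.bij R).symm_apply_apply _)).trans
    (congrArg (fun z => Subtype.val z ≫ g.hom.left) ((s.bij R).symm_apply_apply gp))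

theorem xi_ker [FiniteDimensional k A] (s : BrSev.SBStr k A (n * n - n) p) (hn : 0 < n)
    (hA : Module.finrank k A = n * n) :
    (xi s).ker = (Units.map (algebraMap k A : k →* A)).range := by
  ext a
  rw [MonoidHom.mem_ker]
  constructor
  · intro h
    refine inv_mem_iff.mp (mem_range_of_forall_rmul hn hA a⁻¹ fun R _ _ I => ?_)
    have h1 : ((s.bij R).symm I).1 ≫ (xi s a).hom.left = ((s.bij R).symm I).1 := by
      rw [h]; exact Category.comp_id _
    rw [xi_hom, toOver_pt, Equiv.apply_symm_apply] at h1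
    exact (s.bij R).symm.injective (Subtype.ext h1)
  · rintro ⟨r, rfl⟩
    refine Iso.ext (hom_ext_pts fun R _ _ g => ?_)
    rw [xi_hom, toOver_pt]
    show ((s.bij R).symm (rmul (incl R (Units.map (algebraMap k A : k →* A) r)⁻¹) (s.bij R g))).1 = g.1 ≫ 𝟙 X
    rw [← map_inv, show incl R (Units.map (algebraMap k A : k →* A) r⁻¹) =
      Units.map (algebraMap R (R ⊗[k] A)).toMonoidHom (Units.map (algebraMap k R).toMonoidHom r⁻¹) from
      Units.ext (by simp [Algebra.TensorProduct.algebraMap_apply]), rmul_scalar,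
      Equiv.symm_apply_apply, Category.comp_id]

end Main

end GrothLib.SBAut21
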