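import Mathlib.RingTheory.MvPolynomial.Homogeneous
import Mathlib.Algebra.MvPolynomial.Division
import Mathlib.Algebra.MvPolynomial.NoZeroDivisors
import Mathlib.Algebra.MvPolynomial.Nilpotent
import Mathlib.RingTheory.Polynomial.UniqueFactorization
import Mathlib.RingTheory.Ideal.Quotient.Operations
import Mathlib.RingTheory.Localization.FractionRing
import Mathlib.Data.Matrix.Mul
import Mathlib.LinearAlgebra.Matrix.Determinant.Basic
import Mathlib.LinearAlgebra.Matrix.NonsingularInverse

/-!
# Coprime families of polynomials and invertible homogeneous maps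
-/

universe u v w

open MvPolynomial

namespace GrothLib.SBAut21

section Coprim

variable {ι : Type v} {P : Type u} [CommRing P] [IsDomain P] [UniqueFactorizationMonoid P]

/-- A family without common nonunit divisor. -/
def Coprim (F : ι → P) : Prop := ∀ b : P, (∀ i, b ∣ F i) → IsUnit b

theorem Coprim.dvd_of_dvd_mul {F : ι → P} (hF : Coprim F) :
    ∀ b c : P, (∀ i, b ∣ c * F i) → b ∣ c := by
  intro b
  induction b using UniqueFactorizationMonoid.induction_on_prime with
  | h₁ =>
    intro c h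
    by_cases hc : c = 0
    · simp [hc]
    have : ∀ i, F i = 0 := fun i => by
      have := h i; rw [zero_dvd_iff, mul_eq_zero] at this; tauto
    exact absurd (hF 0 fun i => by simp [this i]) not_isUnit_zero
  | h₂ a ha => exact fun c _ => ha.dvd
  | h₃ a p _ hp ih =>
    intro c h
    have hpc : p ∣ c := by
      by_contra hc
      refine hp.not_unit (hF p fun i => ((hp.dvd_mul).mp ?_).resolve_left hc)
      exact (dvd_mul_right p a).trans (h i)
    obtain ⟨c', rfl⟩ := hpc
    refine mul_dvd_mul_left p (ih c' fun i => ?_)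
    have := h i
    rwa [mul_assoc, mul_dvd_mul_iff_left hp.ne_zero] at this

theorem exists_coprim {F : ι → P} {i₀ : ι} (h : F i₀ ≠ 0) :
    ∃ (q : P) (G : ι → P), q ≠ 0 ∧ Coprim G ∧ ∀ i, F i = q * G i := by
  suffices H : ∀ b : P, ∀ F : ι → P, F i₀ = b → b ≠ 0 →
      ∃ (q : P) (G : ι → P), q ≠ 0 ∧ Coprim G ∧ ∀ i, F i = q * G i from H _ F rfl h
  intro b
  refine wellFounded_dvdNotUnit.induction (C := fun b => ∀ F : ι → P, F i₀ = b → b ≠ 0 →
    ∃ (q : P) (G : ι → P), q ≠ 0 ∧ Coprim G ∧ ∀ i, F i = q * G i) b fun b ih => ?_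
  · intro F hb hb0
    by_cases hc : Coprim F
    · exact ⟨1, F, one_ne_zero, hc, fun i => (one_mul _).symm⟩
    obtain ⟨d, hd, hdu⟩ : ∃ d, (∀ i, d ∣ F i) ∧ ¬ IsUnit d := by
      simpa [Coprim] using hc
    choose G hG using hd
    have hd0 : d ≠ 0 := fun e => hb0 (by rw [← hb, hG, e, zero_mul])
    have hG0 : G i₀ ≠ 0 := fun e => hb0 (by rw [← hb, hG, e, mul_zero])
    obtain ⟨q, G', hq, hG', hFG⟩ := ih (G i₀) ⟨hG0, d, hdu, (hb.symm.trans (hG i₀)).trans (mul_comm _ _)⟩ G rfl hG0
    exact ⟨d * q, G', mul_ne_zero hd0 hq, hG', fun i => by rw [hG, hFG, mul_assoc]⟩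

end Coprim

variable {σ : Type v} {K : Type u} [Field K]

/-- The substitution `X i ↦ X i * t`. -/
noncomputable def scaleHom : MvPolynomial σ K →ₐ[K] Polynomial (MvPolynomial σ K) :=
  aeval (fun i => Polynomial.C (X i) * Polynomial.X)

theorem scaleHom_of_isHomogeneous {p : MvPolynomial σ K} {m : ℕ} (hp : p.IsHomogeneous m) :
    scaleHom p = Polynomial.C p * Polynomial.X ^ m := by
  classical
  conv_rhs => rw [p.as_sum, map_sum, Finset.sum_mul]
  conv_lhs => rw [p.as_sum, map_sum]
  refine Finset.sum_congr rfl fun d hd => ?_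
  have hdeg : d.degree = m := by
    have := hp (MvPolynomial.mem_support_iff.1 hd)
    simpa [Finsupp.degree_eq_weight_one, Pi.one_def] using this
  rw [scaleHom, aeval_monomial, monomial_eq (a := coeff d p), map_mul, Finsupp.prod, Finsupp.prod,
    map_prod]
  simp only [mul_pow, Finset.prod_mul_distrib, Finset.prod_pow_eq_pow_sum, map_pow]
  rw [show ∑ i ∈ d.support, d i = m from hdeg, IsScalarTower.algebraMap_apply K (MvPolynomial σ K)
    (Polynomial (MvPolynomial σ K)), Polynomial.algebraMap_eq, MvPolynomial.algebraMap_eq, mul_assoc]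

theorem coeff_scaleHom (p : MvPolynomial σ K) (m : ℕ) :
    (scaleHom p).coeff m = homogeneousComponent m p := by
  conv_lhs => rw [← sum_homogeneousComponent (φ := p), map_sum, Polynomial.finsetSum_coeff]
  simp only [scaleHom_of_isHomogeneous (homogeneousComponent_isHomogeneous _ p),
    Polynomial.coeff_C_mul_X_pow]
  rw [Finset.sum_ite_eq, ite_eq_left_iff]
  intro h
  rw [Finset.mem_range, not_lt] at h
  exact (homogeneousComponent_eq_zero _ _ (by omega)).symm

variable {n : ℕ}

theorem homogeneous_of_scaling {F : Fin n → MvPolynomial (Fin n) K} (hF : Coprim F)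
    (i₀ : Fin n) (h0 : F i₀ ≠ 0)
    (h : ∀ i l, scaleHom (F i) * Polynomial.C (F l) = scaleHom (F l) * Polynomial.C (F i)) :
    ∃ d, ∀ i, (F i).IsHomogeneous d := by
  let m := (F i₀).totalDegree
  have hm : ∀ i l, homogeneousComponent m (F i) * F l = homogeneousComponent m (F l) * F i := by
    intro i l
    have := congrArg (fun p => p.coeff m) (h i l)
    simpa [Polynomial.coeff_mul_C, coeff_scaleHom] using this
  obtain ⟨q, hq⟩ : F i₀ ∣ homogeneousComponent m (F i₀) :=
    hF.dvd_of_dvd_mul _ _ fun l => ⟨homogeneousComponent m (F l), by rw [hm, mul_comm]⟩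
  have hall : ∀ l, homogeneousComponent m (F l) = q * F l := fun l => by
    have := hm i₀ l
    rw [hq, mul_assoc, mul_comm (homogeneousComponent m (F l))] at this
    exact (mul_left_cancel₀ h0 this).symm
  have hne : homogeneousComponent m (F i₀) ≠ 0 := fun e => by
    obtain ⟨d, hd, hd'⟩ := Finset.exists_mem_eq_sup (F i₀).support (support_nonempty.mpr h0)
      (fun s => s.sum fun _ e => e)
    have := congrArg (coeff d) e
    rw [coeff_homogeneousComponent, coeff_zero, if_pos (by
      show d.degree = (F i₀).totalDegree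
      rw [totalDegree, hd']; rfl)] at this
    exact mem_support_iff.mp hd this
  have hq0 : q ≠ 0 := fun e => hne (by rw [hq, e, mul_zero])
  have hdeg := congrArg totalDegree hq
  rw [(homogeneousComponent_isHomogeneous m (F i₀)).totalDegree hne,
    totalDegree_mul_of_isDomain h0 hq0] at hdeg
  obtain ⟨c, rfl⟩ : ∃ c, q = C c := ⟨_, totalDegree_eq_zero_iff_eq_C.mp (by omega)⟩
  have hc : c ≠ 0 := fun e => hq0 (by rw [e, map_zero])
  refine ⟨m, fun l => ?_⟩
  have : F l = C c⁻¹ * homogeneousComponent m (F l) := by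
    rw [hall, ← mul_assoc, ← map_mul, inv_mul_cancel₀ hc, map_one, one_mul]
  rw [this]
  exact (homogeneousComponent_isHomogeneous m (F l)).C_mul _

theorem coprim_X (hn : 2 ≤ n) : Coprim (fun i : Fin n => (X i : MvPolynomial (Fin n) K)) := by
  intro b hb
  obtain ⟨r, hr, h | h⟩ := dvd_X_iff_exists.mp (hb ⟨0, by omega⟩)
  · rw [h]; exact hr.map C
  · exfalso
    have h2 := hb ⟨1, by omega⟩
    rw [h, smul_eq_C_mul] at h2
    have h3 := X_dvd_X.mp ((dvd_mul_left _ _).trans h2)
    simp [Fin.ext_iff] at h3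

theorem sum_mul_of_isHomogeneous_one {p : MvPolynomial (Fin n) K} (hp : p.IsHomogeneous 1) :
    p = ∑ j, C (coeff (Finsupp.single j 1) p) * X j := by
  classical
  refine MvPolynomial.ext _ _ fun d => ?_
  simp only [coeff_sum, coeff_C_mul, coeff_X', mul_ite, mul_one, mul_zero]
  by_cases hd : d.degree = 1
  · obtain ⟨j, rfl⟩ : ∃ j, Finsupp.single j 1 = d :=
      Set.mem_range.mp (Finsupp.range_single_one.symm.subset hd)
    rw [Finset.sum_eq_single j]
    · simp
    · intro j' _ hj'
      rw [if_neg]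
      exact fun e => hj' (Finsupp.single_left_injective one_ne_zero e)
    · simp
  · rw [hp.coeff_eq_zero hd, Finset.sum_eq_zero]
    intro j _
    rw [if_neg]
    rintro rfl
    exact hd (Finsupp.degree_single _ _)

/-- Homogeneous maps without base points which are mutually inverse up to scalars are linear. -/
theorem exists_linear_of_inverse (hn : 2 ≤ n) {F G : Fin n → MvPolynomial (Fin n) K} {d e : ℕ}
    (hFh : ∀ i, (F i).IsHomogeneous d) (hGh : ∀ i, (G i).IsHomogeneous e)
    (hF0 : ∀ (L : Type u) [Field L] [Algebra K L] (v : Fin n → L), v ≠ 0 →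
      (fun i => aeval v (F i)) ≠ 0)
    (hG0 : ∀ (L : Type u) [Field L] [Algebra K L] (v : Fin n → L), v ≠ 0 →
      (fun i => aeval v (G i)) ≠ 0)
    (h : ∀ i l, aeval F (G i) * X l = aeval F (G l) * X i) :
    ∃ M : Matrix (Fin n) (Fin n) K, IsUnit M ∧ ∀ i, F i = ∑ j, C (M j i) * X j := by
  have hX := coprim_X (K := K) hn
  let i₀ : Fin n := ⟨0, by omega⟩
  obtain ⟨q, hq⟩ : X i₀ ∣ aeval F (G i₀) :=
    hX.dvd_of_dvd_mul _ _ fun l => ⟨aeval F (G l), by rw [h, mul_comm]⟩
  have hall : ∀ l, aeval F (G l) = q * X l := fun l => by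
    have := h i₀ l
    rw [hq, mul_assoc, mul_comm (aeval F (G l))] at this
    exact (mul_left_cancel₀ (X_ne_zero i₀) this).symm
  have hq0 : q ≠ 0 := by
    intro e0
    let L := FractionRing (MvPolynomial (Fin n) K)
    let x : Fin n → L := fun i => algebraMap (MvPolynomial (Fin n) K) L (X i)
    have hx : x ≠ 0 := Function.ne_iff.mpr ⟨i₀, by
      simpa [x] using (X_ne_zero i₀ : (X i₀ : MvPolynomial (Fin n) K) ≠ 0)⟩
    refine hG0 L _ (hF0 L x hx) (funext fun l => ?_)
    have hh : ∀ p : MvPolynomial (Fin n) K, aeval x p = algebraMap _ L p := fun p => by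
      exact (DFunLike.congr_fun (aeval_unique (IsScalarTower.toAlgHom K (MvPolynomial (Fin n) K) L)) p).symm
    show aeval (fun i => aeval x (F i)) (G l) = 0
    rw [← MvPolynomial.comp_aeval_apply, hall, hh, e0, zero_mul, map_zero]
  have hqu : IsUnit q := by
    by_contra hnu
    obtain ⟨π, hπ, hdvd⟩ := WfDvdMonoid.exists_irreducible_factor hnu hq0
    have hπp : Prime π := UniqueFactorizationMonoid.irreducible_iff_prime.mp hπ
    let I : Ideal (MvPolynomial (Fin n) K) := Ideal.span {π}
    have : I.IsPrime := (Ideal.span_singleton_prime hπp.ne_zero).mpr hπp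
    let L := FractionRing (MvPolynomial (Fin n) K ⧸ I)
    let φ : MvPolynomial (Fin n) K →ₐ[K] L :=
      (IsScalarTower.toAlgHom K (MvPolynomial (Fin n) K ⧸ I) L).comp (Ideal.Quotient.mkₐ K I)
    have hφ : ∀ p, φ p = 0 ↔ π ∣ p := fun p => by
      show algebraMap (MvPolynomial (Fin n) K ⧸ I) L (Ideal.Quotient.mk I p) = 0 ↔ _
      rw [IsFractionRing.to_map_eq_zero_iff, Ideal.Quotient.eq_zero_iff_mem, Ideal.mem_span_singleton]
    let x : Fin n → L := fun i => φ (X i)
    have hx : x ≠ 0 := fun e0 => hπp.not_unit (hX π fun i => (hφ _).mp (congrFun e0 i))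
    refine hG0 L _ (hF0 L x hx) (funext fun l => ?_)
    show aeval (fun i => aeval x (F i)) (G l) = 0
    rw [← MvPolynomial.comp_aeval_apply, show aeval x = φ from (aeval_unique φ).symm, hφ, hall]
    exact hdvd.trans (dvd_mul_right _ _)
  obtain ⟨c, hc, rfl⟩ := (MvPolynomial.isUnit_iff_eq_C_of_isReduced (P := q)).mp hqu
  have hde : d * e = 1 := by
    have h1 : (aeval F (G i₀)).IsHomogeneous (d * e) := (hGh i₀).aeval F hFh
    have h2 : (C c * X i₀ : MvPolynomial (Fin n) K).IsHomogeneous 1 := (isHomogeneous_X K i₀).C_mul c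
    rw [hall] at h1
    exact h1.inj_right h2 (mul_ne_zero (by simpa using hc.ne_zero) (X_ne_zero _))
  obtain ⟨rfl, rfl⟩ : d = 1 ∧ e = 1 := ⟨Nat.eq_one_of_mul_eq_one_right hde, Nat.eq_one_of_mul_eq_one_left hde⟩
  let M : Matrix (Fin n) (Fin n) K := fun j i => coeff (Finsupp.single j 1) (F i)
  let N : Matrix (Fin n) (Fin n) K := fun j i => coeff (Finsupp.single j 1) (G i)
  have hM : ∀ i, F i = ∑ j, C (M j i) * X j := fun i => sum_mul_of_isHomogeneous_one (hFh i)
  have hMN : M * N = c • (1 : Matrix (Fin n) (Fin n) K) := by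
    ext j l
    have := congrArg (coeff (Finsupp.single j 1)) (hall l)
    rw [sum_mul_of_isHomogeneous_one (hGh l)] at this
    simp only [map_sum, map_mul, aeval_C, aeval_X, MvPolynomial.algebraMap_eq, coeff_sum,
      coeff_C_mul] at this
    rw [Matrix.mul_apply, Matrix.smul_apply, Matrix.one_apply, smul_eq_mul]
    convert this using 1
    · exact Finset.sum_congr rfl fun x _ => mul_comm _ _
    · classical
      rw [coeff_X']
      simp [Finsupp.single_left_inj one_ne_zero, eq_comm]
  refine ⟨M, ?_, hM⟩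
  refine (IsUnit.of_mul_eq_one (c⁻¹ • N) ?_)
  rw [mul_smul_comm, hMN, smul_smul, inv_mul_cancel₀ hc.ne_zero, one_smul]

end GrothLib.SBAut21
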