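import Groth.Agent.Lib.SBAut21.Lines
import Groth.Agent.Lib.SBAut21.Poly
import Mathlib.RingTheory.Localization.Away.Basic
import Mathlib.RingTheory.Localization.Integer
import Mathlib.RingTheory.Localization.Defs
import Mathlib.RingTheory.Localization.FractionRing

/-!
# Natural automorphisms of the functor of left ideals of a split algebra
-/

universe u

open scoped TensorProduct
open Module Matrix

namespace GrothLib.SBAut21

noncomputable section

variable {k : Type u} [Field k] {A : Type u} [Ring A] [Algebra k A] [FiniteDimensional k A] {n : ℕ}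
  {K : Type u} [Field K] [Algebra k K] (e : K ⊗[k] A ≃ₐ[K] Matrix (Fin n) (Fin n) K)

section Line

variable {R : Type u} [CommRing R] [Algebra k R] [Algebra K R] [IsScalarTower k K R]

theorem line_smul {v : Fin n → R} {r : R} (hr : IsUnit r) : line e (r • v) = line e v := by
  obtain ⟨r, rfl⟩ := hr
  ext x
  simp only [mem_line]
  constructor
  · rintro ⟨u, hu⟩
    exact ⟨(r : R) • u, by rw [hu, vecMulVec_smul, smul_vecMulVec]⟩
  · rintro ⟨u, hu⟩
    exact ⟨(↑r⁻¹ : R) • u, by
      rw [hu, vecMulVec_smul, smul_vecMulVec, smul_smul, r.mul_inv, one_smul]⟩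

theorem exists_eq_smul_of_line_le {v w : Fin n → R} (i₀ : Fin n) (h : line e v ≤ line e w) :
    ∃ r : R, v = r • w := by
  obtain ⟨u, hu⟩ := (mem_line e).mp (h (x := (psi e R).symm (vecMulVec (Pi.single i₀ 1) v))
    ((mem_line e).mpr ⟨_, (psi e R).apply_symm_apply _⟩))
  rw [AlgEquiv.apply_symm_apply] at hu
  refine ⟨u i₀, funext fun i => ?_⟩
  simpa [vecMulVec_apply] using congrFun (congrFun hu i₀) i

theorem cross_of_line_eq {v w : Fin n → R} (i₀ : Fin n) (h : line e v = line e w) (i l : Fin n) :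
    v i * w l = v l * w i := by
  obtain ⟨r, rfl⟩ := exists_eq_smul_of_line_le e i₀ h.le
  simp only [Pi.smul_apply, smul_eq_mul]
  ring

theorem rmul_line (a : (R ⊗[k] A)ˣ) {v : Fin n → R} {I : Pt k A (n * n - n) R}
    (hI : I.1.toSubmodule = line e v) :
    (rmul a I).1.toSubmodule = line e (v ᵥ* psi e R (a : R ⊗[k] A)) := by
  ext x
  rw [mem_rmul, hI, mem_line, mem_line]
  constructor
  · rintro ⟨u, hu⟩
    refine ⟨u, ?_⟩
    rw [← vecMulVec_mul, ← hu, ← map_mul, mul_assoc, a.inv_mul, mul_one]
  · rintro ⟨u, hu⟩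
    refine ⟨u, ?_⟩
    rw [map_mul, hu, ← vecMulVec_mul, mul_assoc, ← map_mul, a.mul_inv, map_one, mul_one]

theorem psi_self (x : K ⊗[k] A) : psi e K x = e x := by
  show psiHom e K x = e x
  induction x using TensorProduct.induction_on with
  | zero => simp
  | add x y hx hy => rw [map_add, map_add, hx, hy]
  | tmul c a =>
    rw [psiHom_tmul, show (c ⊗ₜ[k] a : K ⊗[k] A) = c • ((1 : K) ⊗ₜ[k] a) by
      rw [TensorProduct.smul_tmul', smul_eq_mul, mul_one], map_smul]
    ext i j
    simp

include e in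
theorem exists_scalar_of_forall_rmul (hn : 0 < n) (x : (R ⊗[k] A)ˣ)
    (h : ∀ I : Pt k A (n * n - n) R, rmul x I = I) :
    ∃ r : Rˣ, (x : R ⊗[k] A) = algebraMap R (R ⊗[k] A) r := by
  let i₀ : Fin n := ⟨0, hn⟩
  let M := psi e R (x : R ⊗[k] A)
  have hfix : ∀ (v : Fin n → R) (j : Fin n), IsUnit (v j) → ∃ r, v ᵥ* M = r • v := fun v j hj => by
    have h1 := rmul_line e x (linePt_toSubmodule e v j hj)
    rw [h (linePt e v j hj), linePt_toSubmodule] at h1
    exact exists_eq_smul_of_line_le e i₀ h1.ge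
  have hoff : ∀ i j, j ≠ i → M i j = 0 := fun i j hij => by
    obtain ⟨r, hr⟩ := hfix (Pi.single i 1) i (by simp)
    simpa [hij] using congrFun hr j
  have hdiag : ∀ i, M i i = M i₀ i₀ := fun i => by
    obtain ⟨r, hr⟩ := hfix (fun _ => 1) i₀ isUnit_one
    have h1 : ∀ j, M j j = r := fun j => by
      have := congrFun hr j
      simp only [vecMul, dotProduct, one_mul, Pi.smul_apply, smul_eq_mul, mul_one] at this
      rwa [Finset.sum_eq_single j (fun b _ hb => hoff b j hb.symm) (by simp)] at this
    rw [h1, h1]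
  have hM : M = algebraMap R _ (M i₀ i₀) := by
    ext i j
    rw [Matrix.algebraMap_matrix_apply]
    by_cases hij : i = j
    · subst hij; simpa using hdiag i
    · rw [if_neg hij]; exact hoff i j (Ne.symm hij)
  have hu : IsUnit (M i₀ i₀) := by
    refine IsUnit.of_mul_eq_one (psi e R (↑x⁻¹ : R ⊗[k] A) i₀ i₀) ?_
    have h1 : M * psi e R (↑x⁻¹ : R ⊗[k] A) = 1 := by rw [← map_mul, x.mul_inv, map_one]
    rw [hM] at h1
    simpa [← Algebra.smul_def] using congrFun (congrFun h1 i₀) i₀
  refine ⟨hu.unit, (psi e R).injective ?_⟩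
  rw [AlgEquiv.commutes]
  exact hM

end Line

open MvPolynomial in
include e in
/-- The coordinates of a natural endomorphism. -/
theorem exists_coords (η : NatEnd k A (n * n - n)) (hn : 0 < n) :
    ∃ F : Fin n → MvPolynomial (Fin n) K, Coprim F ∧ (∃ i, F i ≠ 0) ∧
      ∀ (R : Type u) [CommRing R] [Algebra k R] [Algebra K R] [IsScalarTower k K R]
        (v : Fin n → R) (j : Fin n) (hj : IsUnit (v j)),
        Ideal.span (Set.range fun i => MvPolynomial.aeval v (F i)) = ⊤ ∧
        (η.app R (linePt e v j hj)).1.toSubmodule = line e (fun i => MvPolynomial.aeval v (F i)) := by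
  classical
  let P := MvPolynomial (Fin n) K
  let Q := FractionRing P
  let i₀ : Fin n := ⟨0, hn⟩
  let xQ : Fin n → Q := fun i => algebraMap P Q (X i)
  have hxQ : ∀ j, IsUnit (xQ j) := fun j => isUnit_iff_ne_zero.mpr (by
    simp only [xQ, ne_eq, IsFractionRing.to_map_eq_zero_iff]; exact X_ne_zero j)
  obtain ⟨w, jw, hjw, hw⟩ := exists_linePt e hn (η.app Q (linePt e xQ i₀ (hxQ i₀)))
  obtain ⟨b, hb⟩ := IsLocalization.exist_integer_multiples_of_finite (nonZeroDivisors P) w
  choose p hp using hb
  have hpj : p jw ≠ 0 := fun e0 => by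
    have := hp jw
    rw [e0, map_zero, eq_comm, Algebra.smul_def, mul_eq_zero, IsFractionRing.to_map_eq_zero_iff] at this
    exact this.elim (nonZeroDivisors.coe_ne_zero b) hjw.ne_zero
  obtain ⟨q, F, hq, hF, hpF⟩ := exists_coprim hpj
  have hFj : F jw ≠ 0 := fun e0 => hpj (by rw [hpF, e0, mul_zero])
  let FQ : Fin n → Q := fun i => algebraMap P Q (F i)
  have hline : line e w = line e FQ := by
    have h1 : algebraMap P Q (b : P) • w = algebraMap P Q q • FQ := funext fun i => by
      simp only [Pi.smul_apply, smul_eq_mul, FQ]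
      rw [← map_mul, ← hpF, hp i, Algebra.smul_def]
    rw [← line_smul e (v := w) (r := algebraMap P Q (b : P)) (isUnit_iff_ne_zero.mpr (by
      simp [nonZeroDivisors.coe_ne_zero b])), h1,
      line_smul e (isUnit_iff_ne_zero.mpr (by simpa using hq))]
  refine ⟨F, hF, ⟨jw, hFj⟩, fun R _ _ _ _ v j hj => ?_⟩
  let Rj := Localization.Away (X j : P)
  let f₀ : Rj →ₐ[P] Q := IsLocalization.liftAlgHom (M := Submonoid.powers (X j : P))
    (f := Algebra.ofId P Q) (fun y => by
      obtain ⟨_, m, rfl⟩ := y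
      show IsUnit (algebraMap P Q ((X j : P) ^ m))
      rw [map_pow]; exact (hxQ j).pow m)
  let f : Rj →ₐ[k] Q := f₀.restrictScalars k
  have hf : Function.Injective f := (injective_iff_map_eq_zero f).mpr fun z hz => by
    obtain ⟨⟨p₁, s₁⟩, h1⟩ := IsLocalization.surj (Submonoid.powers (X j : P)) z
    have h2 : algebraMap P Q p₁ = 0 := by
      rw [← f₀.commutes, ← h1, map_mul, show f₀ z = 0 from hz, zero_mul]
    rw [IsFractionRing.to_map_eq_zero_iff] at h2
    rw [show algebraMap P Rj p₁ = 0 by rw [h2, map_zero]] at h1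
    exact (IsLocalization.map_units Rj s₁).mul_left_eq_zero.mp h1
  have hfK : ∀ c : K, f (algebraMap K Rj c) = algebraMap K Q c := fun c =>
    (congrArg f (IsScalarTower.algebraMap_apply K P Rj c)).trans
      ((f₀.commutes _).trans (IsScalarTower.algebraMap_apply K P Q c).symm)
  let xj : Fin n → Rj := fun i => algebraMap P Rj (X i)
  have hxj : IsUnit (xj j) := IsLocalization.Away.algebraMap_isUnit _
  let N := η.app Rj (linePt e xj j hxj)
  let Fj : Fin n → Rj := fun i => algebraMap P Rj (F i)
  have hfF : f ∘ Fj = FQ := funext fun i => f₀.commutes _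
  have hN : (sbMap f N).1.toSubmodule = line e FQ := by
    rw [← η.natural, sbMap_linePt e f hfK, ← hline, ← linePt_toSubmodule e w jw hjw, ← hw]
    have h1 : linePt e (f ∘ xj) j (hxj.map f) = linePt e xQ i₀ (hxQ i₀) := Pt.ext' (by
      rw [linePt_toSubmodule, linePt_toSubmodule, show f ∘ xj = xQ from funext fun i => f₀.commutes _])
    rw [h1]
  have hrows : rows e N i₀ = Submodule.span Rj {Fj} := by
    ext u
    rw [mem_rows, mem_iff_bcA_mem f N.1 hf, show (Grassmannian.map f N.1).toSubmodule = _ from hN,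
      mem_line, psi_bcA e f hfK, AlgEquiv.apply_symm_apply, Submodule.mem_span_singleton]
    constructor
    · rintro ⟨c, hc⟩
      have hu : ∀ i, f (u i) = c i₀ * FQ i := fun i => by
        simpa [vecMulVec_apply] using congrFun (congrFun hc i₀) i
      obtain ⟨⟨a, s⟩, hs⟩ := IsLocalization.surj (nonZeroDivisors P) (c i₀)
      obtain ⟨t, ht⟩ := IsLocalization.exist_integer_multiples_of_finite (Submonoid.powers (X j : P)) u
      choose r hr using ht
      have key : ∀ i, (s : P) * r i = (t : P) * a * F i := fun i => by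
        refine IsFractionRing.injective P Q ?_
        have h2 : algebraMap P Q (r i) = algebraMap P Q (t : P) * f (u i) := by
          rw [← f₀.commutes, hr i, map_smul, Algebra.smul_def]; rfl
        simp only [map_mul, h2, hu, ← hs, FQ]
        ring
      obtain ⟨d, hd⟩ := hF.dvd_of_dvd_mul (s : P) ((t : P) * a) fun i => ⟨r i, (key i).symm⟩
      have hrd : ∀ i, r i = d * F i := fun i =>
        mul_left_cancel₀ (nonZeroDivisors.coe_ne_zero s) (by rw [key, hd, mul_assoc])
      refine ⟨IsLocalization.mk' Rj d t, funext fun i => ?_⟩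
      show IsLocalization.mk' Rj d t * algebraMap P Rj (F i) = u i
      refine (IsLocalization.map_units Rj t).mul_left_cancel ?_
      rw [← mul_assoc, IsLocalization.mk'_spec', ← map_mul, ← hrd, hr, Algebra.smul_def]
    · rintro ⟨r, rfl⟩
      refine ⟨Pi.single i₀ (f r), Matrix.ext fun a b => ?_⟩
      by_cases ha : a = i₀
      · subst ha; simp [vecMulVec_apply, ← hfF]
      · simp [vecMulVec_apply, ha]
  have hFj0 : Fj ≠ 0 := fun e0 => hFj (by
    have h1 := congrArg f (congrFun e0 jw)
    rw [show f (Fj jw) = FQ jw from congrFun hfF jw, Pi.zero_apply, map_zero] at h1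
    simpa [FQ] using h1)
  have : IsDomain Rj := Function.Injective.isDomain f.toRingHom hf
  have htop := span_coord_eq_top e N i₀ hFj0 hrows
  let g₀ : Rj →ₐ[K] R := IsLocalization.liftAlgHom (M := Submonoid.powers (X j : P))
    (f := MvPolynomial.aeval v) (fun y => by
      obtain ⟨_, m, rfl⟩ := y
      simpa using hj.pow m)
  let g : Rj →ₐ[k] R := g₀.restrictScalars k
  have hgK : ∀ c : K, g (algebraMap K Rj c) = algebraMap K R c := fun c => g₀.commutes c
  have hg : ∀ p : P, g (algebraMap P Rj p) = MvPolynomial.aeval v p := fun p =>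
    IsLocalization.lift_eq _ p
  refine ⟨?_, ?_⟩
  · have h1 := congrArg (Ideal.map g.toRingHom) htop
    rw [Ideal.map_top, Ideal.map_span, ← Set.range_comp] at h1
    convert h1 using 3
    exact funext fun i => (hg (F i)).symm
  · have h1 := sbMap_of_eq_line e g hgK (toSubmodule_eq_line e N i₀ hrows)
    rw [← η.natural, sbMap_linePt e g hgK] at h1
    convert h1 using 2
    · exact congrArg (fun I => (η.app R I).1)
        (show linePt e v j hj = linePt e (g ∘ xj) j (hxj.map g) from Pt.ext'
          (congrArg (line e) (funext fun i => by simp [xj, hg]) :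
            line e v = line e (g ∘ xj)))
    · exact funext fun i => (hg (F i)).symm

open MvPolynomial in
include e in
/-- The coordinates of a natural endomorphism are homogeneous. -/
theorem homogeneous_coords (η : NatEnd k A (n * n - n)) (hn : 0 < n)
    {F : Fin n → MvPolynomial (Fin n) K} (hF : Coprim F) (i₁ : Fin n) (hFi₁ : F i₁ ≠ 0)
    (hη : ∀ (R : Type u) [CommRing R] [Algebra k R] [Algebra K R] [IsScalarTower k K R]
      (v : Fin n → R) (j : Fin n) (hj : IsUnit (v j)),
      Ideal.span (Set.range fun i => MvPolynomial.aeval v (F i)) = ⊤ ∧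
      (η.app R (linePt e v j hj)).1.toSubmodule = line e (fun i => MvPolynomial.aeval v (F i))) :
    ∃ d, ∀ i, (F i).IsHomogeneous d := by
  let P := MvPolynomial (Fin n) K
  let i₀ : Fin n := ⟨0, hn⟩
  refine homogeneous_of_scaling hF i₁ hFi₁ fun i l => ?_
  let Q' := FractionRing (Polynomial P)
  let x' : Fin n → Q' := fun i => algebraMap (Polynomial P) Q' (Polynomial.C (X i))
  let t' : Q' := algebraMap (Polynomial P) Q' Polynomial.X
  have ht' : IsUnit t' := isUnit_iff_ne_zero.mpr (by
    simp only [t', ne_eq, IsFractionRing.to_map_eq_zero_iff]; exact Polynomial.X_ne_zero)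
  have hx' : IsUnit (x' i₀) := isUnit_iff_ne_zero.mpr (by
    simp only [x', ne_eq, IsFractionRing.to_map_eq_zero_iff, Polynomial.C_eq_zero]; exact X_ne_zero i₀)
  have hpt : linePt e (t' • x') i₀ (ht'.mul hx') = linePt e x' i₀ hx' :=
    Pt.ext' (line_smul e ht')
  have h1 := (hη Q' (t' • x') i₀ (ht'.mul hx')).2
  rw [hpt, (hη Q' x' i₀ hx').2] at h1
  have h3 := cross_of_line_eq e i₀ h1 l i
  have hC : ∀ p : P, MvPolynomial.aeval x' p = algebraMap (Polynomial P) Q' (Polynomial.C p) :=
    fun p => (DFunLike.congr_fun (aeval_unique ((IsScalarTower.toAlgHom K (Polynomial P) Q').comp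
      (IsScalarTower.toAlgHom K P (Polynomial P)))) p).symm
  have hS : ∀ p : P, MvPolynomial.aeval (t' • x') p = algebraMap (Polynomial P) Q' (scaleHom p) := by
    intro p
    have h0 : MvPolynomial.aeval (t' • x') =
        (IsScalarTower.toAlgHom K (Polynomial P) Q').comp scaleHom := by
      refine MvPolynomial.algHom_ext fun i => ?_
      rw [MvPolynomial.aeval_X, AlgHom.comp_apply]
      show t' * x' i = algebraMap (Polynomial P) Q' (scaleHom (X i))
      rw [scaleHom, MvPolynomial.aeval_X, map_mul, mul_comm]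
    exact DFunLike.congr_fun h0 p
  rw [hC, hC, hS, hS, ← map_mul, ← map_mul] at h3
  have h4 := IsFractionRing.injective (Polynomial P) Q' h3
  rw [mul_comm, h4, mul_comm]

open MvPolynomial in
include e in
/-- A natural automorphism is a right translation. -/
theorem exists_unit_of_natEnd (η η' : NatEnd k A (n * n - n)) (hn : 0 < n)
    (hinv : ∀ (R : Type u) [CommRing R] [Algebra k R] (I : Pt k A (n * n - n) R),
      η'.app R (η.app R I) = I) :
    ∃ a : (K ⊗[k] A)ˣ, ∀ (R : Type u) [CommRing R] [Algebra k R] [Algebra K R] [IsScalarTower k K R]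
      (I : Pt k A (n * n - n) R),
      η.app R I = rmul (Units.map (bcA (IsScalarTower.toAlgHom k K R)).toMonoidHom a) I := by
  classical
  let P := MvPolynomial (Fin n) K
  let Q := FractionRing P
  let i₀ : Fin n := ⟨0, hn⟩
  obtain ⟨F, hF, ⟨i₁, hFi₁⟩, hη⟩ := exists_coords e η hn
  obtain ⟨G, hG, ⟨i₂, hGi₂⟩, hη'⟩ := exists_coords e η' hn
  let xQ : Fin n → Q := fun i => algebraMap P Q (X i)
  have hxQ : ∀ j, IsUnit (xQ j) := fun j => isUnit_iff_ne_zero.mpr (by
    simp only [xQ, ne_eq, IsFractionRing.to_map_eq_zero_iff]; exact X_ne_zero j)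
  have haev : ∀ p : P, MvPolynomial.aeval xQ p = algebraMap P Q p := fun p =>
    (DFunLike.congr_fun (aeval_unique (IsScalarTower.toAlgHom K P Q)) p).symm
  have hbase : ∀ (H : Fin n → P), (∀ (R : Type u) [CommRing R] [Algebra k R] [Algebra K R]
      [IsScalarTower k K R] (v : Fin n → R) (j : Fin n), IsUnit (v j) →
        Ideal.span (Set.range fun i => MvPolynomial.aeval v (H i)) = ⊤) →
      ∀ (L : Type u) [Field L] [Algebra K L] (v : Fin n → L), v ≠ 0 →
        (fun i => MvPolynomial.aeval v (H i)) ≠ 0 := by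
    intro H hH L _ _ v hv h0
    letI : Algebra k L := Algebra.compHom L (algebraMap k K)
    haveI : IsScalarTower k K L := IsScalarTower.of_algebraMap_eq' rfl
    obtain ⟨j, hj⟩ := Function.ne_iff.mp hv
    have h1 := hH L v j (isUnit_iff_ne_zero.mpr hj)
    rw [h0, Ideal.eq_top_iff_one] at h1
    exact one_ne_zero (Ideal.span_le.mpr (by rintro _ ⟨i, rfl⟩; rfl) h1 : (1 : L) ∈ (⊥ : Ideal L))
  obtain ⟨M, hM, hFM⟩ : ∃ M : Matrix (Fin n) (Fin n) K, IsUnit M ∧
      ∀ (R : Type u) [CommRing R] [Algebra k R] [Algebra K R] [IsScalarTower k K R]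
        (v : Fin n → R) (j : Fin n) (hj : IsUnit (v j)),
        (η.app R (linePt e v j hj)).1.toSubmodule = line e (v ᵥ* M.map (algebraMap K R)) := by
    by_cases h2 : n < 2
    · have : Subsingleton (Fin n) := Fin.subsingleton_iff_le_one.mpr (by omega)
      refine ⟨1, isUnit_one, fun R _ _ _ _ v j hj => ?_⟩
      obtain ⟨htop, h⟩ := hη R v j hj
      rw [h, Matrix.map_one _ (map_zero _) (map_one _), Matrix.vecMul_one]
      have hu : IsUnit (MvPolynomial.aeval v (F j)) := by
        rw [← Ideal.span_singleton_eq_top, ← top_le_iff, ← htop, Ideal.span_le]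
        rintro _ ⟨i, rfl⟩
        rw [Subsingleton.elim i j]
        exact Ideal.subset_span rfl
      rw [show (fun i => MvPolynomial.aeval v (F i)) =
        (MvPolynomial.aeval v (F j) * ↑hj.unit⁻¹) • v from funext fun i => by
          rw [Subsingleton.elim i j, Pi.smul_apply, smul_eq_mul, mul_assoc, hj.val_inv_mul, mul_one],
        line_smul e (hu.mul hj.unit⁻¹.isUnit)]
    rw [not_lt] at h2
    obtain ⟨d, hd⟩ := homogeneous_coords e η hn hF i₁ hFi₁ hη
    obtain ⟨e', he'⟩ := homogeneous_coords e η' hn hG i₂ hGi₂ hη'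
    obtain ⟨M, hM, hFM⟩ := exists_linear_of_inverse h2 hd he'
      (hbase F fun R _ _ _ _ v j hj => (hη R v j hj).1)
      (hbase G fun R _ _ _ _ v j hj => (hη' R v j hj).1) (fun i l => by
        obtain ⟨htop, h⟩ := hη Q xQ i₀ (hxQ i₀)
        obtain ⟨j, hj⟩ : ∃ j, IsUnit (MvPolynomial.aeval xQ (F j)) :=
          ⟨i₁, isUnit_iff_ne_zero.mpr (by rw [haev, ne_eq, IsFractionRing.to_map_eq_zero_iff]; exact hFi₁)⟩
        have h1 : η.app Q (linePt e xQ i₀ (hxQ i₀)) =
            linePt e (fun i => MvPolynomial.aeval xQ (F i)) j hj := Pt.ext' h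
        have h3 := (hη' Q (fun i => MvPolynomial.aeval xQ (F i)) j hj).2
        rw [← h1, hinv Q, linePt_toSubmodule] at h3
        have h4 := cross_of_line_eq e i₀ h3 l i
        simp only [xQ, ← MvPolynomial.comp_aeval_apply] at h4
        rw [haev, haev, ← map_mul, ← map_mul] at h4
        have h5 := IsFractionRing.injective P Q h4
        exact (mul_comm _ _).trans (h5.trans (mul_comm _ _)))
    refine ⟨M, hM, fun R _ _ _ _ v j hj => ?_⟩
    rw [(hη R v j hj).2]
    refine congrArg (line e) (funext fun i => ?_)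
    rw [hFM i]
    simp [Matrix.vecMul, dotProduct, mul_comm]
  refine ⟨Units.map e.symm.toAlgHom.toMonoidHom hM.unit, fun R _ _ _ _ I => ?_⟩
  refine eq_of_forall_maximal fun m _ => ?_
  let S := Localization.AtPrime m
  let f : R →ₐ[k] S := IsScalarTower.toAlgHom k R S
  obtain ⟨v, j, hj, hv⟩ := exists_linePt e hn (sbMap f I)
  rw [← η.natural f I, sbMap_rmul, hv]
  refine Pt.ext' ?_
  rw [hFM S v j hj, rmul_line e _ (linePt_toSubmodule e v j hj)]
  refine congrArg (line e) (congrArg (fun N => v ᵥ* N) ?_)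
  show M.map (algebraMap K S) =
    psi e S (bcA f (bcA (IsScalarTower.toAlgHom k K R) (e.symm M)))
  rw [bcA_bcA, psi_bcA e _ (fun c => ?_), psi_self, AlgEquiv.apply_symm_apply]
  · refine Matrix.ext fun a b => ?_
    exact IsScalarTower.algebraMap_apply K R S (M a b)
  · exact (IsScalarTower.algebraMap_apply K R S c).symm

end

end GrothLib.SBAut21
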