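import Groth.Agent.Lib.SBAut21.SplitVec
import Groth.Agent.Lib.SBAut21.Split
import Groth.Agent.Lib.SBAut21.Aut

/-!
# A Severi-Brauer scheme of a split algebra is projective space
-/

universe u

set_option backward.isDefEq.respectTransparency false

open CategoryTheory CategoryTheory.Limits AlgebraicGeometry HomogeneousLocalization MvPolynomial
open scoped TensorProduct

namespace GrothLib.SBAut21

noncomputable section

open GrothLib GrothLib.Ample GrothLib.Ample.ProjMap

variable {k : Type u} [Field k] {A : Type u} [Ring A] [Algebra k A] [FiniteDimensional k A] {m : ℕ}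
  {K : Type u} [Field K] [Algebra k K]
  (e : K ⊗[k] A ≃ₐ[K] Matrix (Fin (m + 1)) (Fin (m + 1)) K)
  {X : Scheme.{u}} {p : X ⟶ Spec (CommRingCat.of k)}
  (s : BrSev.SBStr k A ((m + 1) * (m + 1) - (m + 1)) p)

section Point

variable {R : Type u} [CommRing R] [Algebra k R] [Algebra K R] [IsScalarTower k K R]

theorem specMap_algebraMap :
    Spec.map (CommRingCat.ofHom (algebraMap K R)) ≫ Spec.map (CommRingCat.ofHom (algebraMap k K)) =
      Spec.map (CommRingCat.ofHom (algebraMap k R)) := by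
  rw [← Spec.map_comp, ← CommRingCat.ofHom_comp, ← IsScalarTower.algebraMap_eq]

variable (K) in
/-- A point over a `K`-algebra, in the base change. -/
def toBC (g : BrSev.Pts p R) : Spec (CommRingCat.of R) ⟶ BrSev.bc p K :=
  pullback.lift g.1 (Spec.map (CommRingCat.ofHom (algebraMap K R))) (by rw [g.2, specMap_algebraMap])

theorem toBC_proj (g : BrSev.Pts p R) : toBC K g ≫ BrSev.proj p K = g.1 := pullback.lift_fst _ _ _

theorem toBC_bcTo (g : BrSev.Pts p R) :
    toBC K g ≫ BrSev.bcTo p K = Spec.map (CommRingCat.ofHom (algebraMap K R)) := pullback.lift_snd _ _ _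

theorem map_toBC {S : Type u} [CommRing S] [Algebra k S] [Algebra K S] [IsScalarTower k K S]
    (φ : R →ₐ[k] S) (hφ : ∀ c : K, φ (algebraMap K R c) = algebraMap K S c) (g : BrSev.Pts p R) :
    Spec.map (CommRingCat.ofHom (φ : R →+* S)) ≫ toBC K g = toBC K (BrSev.Pts.map p φ g) := by
  refine pullback.hom_ext ?_ ?_
  · rw [Category.assoc]
    exact (congrArg (_ ≫ ·) (toBC_proj g)).trans (toBC_proj (BrSev.Pts.map p φ g)).symm
  · rw [Category.assoc]
    refine (congrArg (_ ≫ ·) (toBC_bcTo g)).trans ((?_ : _ = Spec.map (CommRingCat.ofHom (algebraMap K S))).trans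
      (toBC_bcTo (BrSev.Pts.map p φ g)).symm)
    rw [← Spec.map_comp, ← CommRingCat.ofHom_comp]
    congr 2
    exact RingHom.ext hφ

/-- The point of the base change given by a vector. -/
def lineBC (v : Fin (m + 1) → R) (j : Fin (m + 1)) (hj : IsUnit (v j)) :
    Spec (CommRingCat.of R) ⟶ BrSev.bc p K :=
  toBC K ((s.bij R).symm (linePt e v j hj))

theorem map_lineBC {S : Type u} [CommRing S] [Algebra k S] [Algebra K S] [IsScalarTower k K S]
    (φ : R →ₐ[k] S) (hφ : ∀ c : K, φ (algebraMap K R c) = algebraMap K S c)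
    (v : Fin (m + 1) → R) (j : Fin (m + 1)) (hj : IsUnit (v j)) :
    Spec.map (CommRingCat.ofHom (φ : R →+* S)) ≫ lineBC e s v j hj =
      lineBC e s (φ ∘ v) j (hj.map φ) := by
  rw [lineBC, map_toBC φ hφ, ← bij_symm_natural, sbMap_linePt e φ hφ, lineBC]

theorem lineBC_eq_of_smul {v w : Fin (m + 1) → R} {c : R} (hc : IsUnit c) (hw : w = c • v)
    (j l : Fin (m + 1)) (hj : IsUnit (v j)) (hl : IsUnit (w l)) :
    lineBC e s w l hl = lineBC e s v j hj := by
  rw [lineBC, lineBC, show linePt e w l hl = linePt e v j hj from Pt.ext' (by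
    rw [linePt_toSubmodule, linePt_toSubmodule, hw, line_smul e hc])]

theorem vPt_eq_of_lineBC_eq {v w : Fin (m + 1) → R} {j l : Fin (m + 1)} {hj : IsUnit (v j)}
    {hl : IsUnit (w l)} (h : lineBC e s v j hj = lineBC e s w l hl) :
    vPt K v j hj = vPt K w l hl := by
  have h1 := congrArg (· ≫ BrSev.proj p K) h
  simp only [lineBC, toBC_proj] at h1
  have h2 := congrArg Subtype.val ((s.bij R).symm.injective (Subtype.ext h1))
  have h3 : line e v = line e w := congrArg Module.Grassmannian.toSubmodule h2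
  obtain ⟨c, hc⟩ := exists_eq_smul_of_line_le e j h3.le
  exact vPt_eq_of_smul hc l j hl hj

end Point

variable (m K) in
/-- The ring of the `j`th chart. -/
def Ch (j : Fin (m + 1)) : Type u :=
  Away (CohB1.polyGrading m K) (MvPolynomial.X j : MvPolynomial (Fin (m + 1)) K)

instance (j : Fin (m + 1)) : CommRing (Ch m K j) :=
  inferInstanceAs (CommRing (Away (CohB1.polyGrading m K) (MvPolynomial.X j : MvPolynomial (Fin (m + 1)) K)))

instance (j : Fin (m + 1)) : Algebra K (Ch m K j) := (cst (R := K) (MvPolynomial.X j)).toAlgebra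

instance (j : Fin (m + 1)) : Algebra k (Ch m K j) :=
  ((algebraMap K (Ch m K j)).comp (algebraMap k K)).toAlgebra

instance (j : Fin (m + 1)) : IsScalarTower k K (Ch m K j) := IsScalarTower.of_algebraMap_eq' rfl

/-- The tautological coordinates on a chart. -/
def chV (j : Fin (m + 1)) : Fin (m + 1) → Ch m K j := fun i => ratio j i

theorem chV_self (j : Fin (m + 1)) : chV (K := K) j j = 1 := ProjMap.ratio_self j

theorem isUnit_chV (j : Fin (m + 1)) : IsUnit (chV (K := K) j j) := by
  rw [chV_self]; exact isUnit_one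

variable (m K) in
/-- The standard cover. -/
def chCover : (CohB1.ProjSpace m K).OpenCover :=
  Scheme.Cover.mkOfCovers (Fin (m + 1)) (fun j => Spec (CommRingCat.of (Ch m K j)))
    (fun j => Proj.awayι (CohB1.polyGrading m K) (MvPolynomial.X j) (X_mem j) one_pos) (fun x => by
      obtain ⟨j, hj⟩ := TopologicalSpace.Opens.mem_iSup.mp
        ((iSup_basicOpen_X m K).ge (x := x) trivial)
      rw [← Proj.opensRange_awayι (CohB1.polyGrading m K) _ (X_mem j) one_pos] at hj
      exact ⟨j, hj⟩) (fun j => inferInstanceAs (IsOpenImmersion (Proj.awayι _ _ _ _)))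

theorem chart_eq_vPt (j : Fin (m + 1)) :
    Proj.awayι (CohB1.polyGrading m K) (MvPolynomial.X j) (X_mem j) one_pos =
      vPt K (chV j) j (isUnit_chV j) := by
  rw [vPt_eq_chart]
  symm
  refine Eq.trans (congrArg (fun g => Spec.map (CommRingCat.ofHom g) ≫ _)
    (evalAway_chart j _)) ?_
  rw [CommRingCat.ofHom_id, Spec.map_id]
  exact Category.id_comp _

/-- The comparison morphism. -/
def phi : CohB1.ProjSpace m K ⟶ BrSev.bc p K :=
  (chCover m K).glueMorphisms (fun j => lineBC e s (chV j) j (isUnit_chV j)) fun i j => by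
    refine Scheme.Cover.hom_ext (pullback ((chCover m K).f i) ((chCover m K).f j)).affineCover _ _
      fun l => ?_
    let T := pullback ((chCover m K).f i) ((chCover m K).f j)
    let c := T.affineCover.f l
    let R : Type u := Γ(T.affineCover.X l, ⊤)
    let c' : Spec (CommRingCat.of R) ⟶ T := (T.affineCover.X l).isoSpec.inv ≫ c
    obtain ⟨φ₁, h₁⟩ := Spec.map_surjective (c' ≫ pullback.fst ((chCover m K).f i) ((chCover m K).f j))
    obtain ⟨φ₂, h₂⟩ := Spec.map_surjective (c' ≫ pullback.snd ((chCover m K).f i) ((chCover m K).f j))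
    let : Algebra K R := (φ₁.hom.comp (algebraMap K (Ch m K i))).toAlgebra
    let : Algebra k R := ((algebraMap K R).comp (algebraMap k K)).toAlgebra
    have : IsScalarTower k K R := IsScalarTower.of_algebraMap_eq' rfl
    have hcomm : Spec.map φ₁ ≫ vPt K (chV i) i (isUnit_chV i) =
        Spec.map φ₂ ≫ vPt K (chV j) j (isUnit_chV j) := by
      rw [h₁, h₂, ← chart_eq_vPt, ← chart_eq_vPt, Category.assoc, Category.assoc]
      exact congrArg (c' ≫ ·) pullback.condition
    have hK : φ₂.hom.comp (algebraMap K (Ch m K j)) = algebraMap K R := by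
      have h := congrArg (· ≫ CohB1.ProjSpace.toSpec m K) hcomm
      simp only [Category.assoc, vPt_toSpec] at h
      rw [← Spec.map_comp, ← Spec.map_comp] at h
      exact (congrArg CommRingCat.Hom.hom (Spec.map_injective h)).symm
    let ψ₁ : Ch m K i →ₐ[k] R :=
      { φ₁.hom with commutes' := fun _ => rfl }
    let ψ₂ : Ch m K j →ₐ[k] R :=
      { φ₂.hom with commutes' := fun r => DFunLike.congr_fun hK (algebraMap k K r) }
    obtain ⟨u, hu, hw⟩ := vPt_inj ((vPt_map (ψ₁ : Ch m K i →+* R) rfl (chV i) i (isUnit_chV i)).symm.trans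
      (hcomm.trans (vPt_map (ψ₂ : Ch m K j →+* R) hK (chV j) j (isUnit_chV j))))
    have hfin : Spec.map φ₁ ≫ lineBC e s (chV i) i (isUnit_chV i) =
        Spec.map φ₂ ≫ lineBC e s (chV j) j (isUnit_chV j) :=
      (map_lineBC e s ψ₁ (fun _ => rfl) (chV i) i _).trans
        ((lineBC_eq_of_smul e s hu hw i j _ _).symm.trans
          (map_lineBC e s ψ₂ (DFunLike.congr_fun hK) (chV j) j _).symm)
    rw [h₁, h₂, Category.assoc, Category.assoc] at hfin
    exact (cancel_epi (T.affineCover.X l).isoSpec.inv).mp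
      ((Category.assoc _ _ _).symm.trans (hfin.trans (Category.assoc _ _ _)))

theorem vPt_phi {R : Type u} [CommRing R] [Algebra k R] [Algebra K R] [IsScalarTower k K R]
    (v : Fin (m + 1) → R) (j : Fin (m + 1)) (hj : IsUnit (v j)) :
    vPt K v j hj ≫ phi e s = lineBC e s v j hj := by
  let g : Ch m K j →+* R := ProjPt.evalAway (CohB1.polyGrading m K) (eval₂Hom (algebraMap K R) v)
    (MvPolynomial.X j) (by simpa using hj)
  have hg : ∀ c : K, g (algebraMap K (Ch m K j) c) = algebraMap K R c := fun c =>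
    (evalAway_cst _ j _ c).trans (eval₂Hom_C _ _ c)
  let ψ : Ch m K j →ₐ[k] R :=
    { g with commutes' := fun r => (hg _).trans (IsScalarTower.algebraMap_apply k K R r).symm }
  have h1 : vPt K v j hj = Spec.map (CommRingCat.ofHom (ψ : Ch m K j →+* R)) ≫ (chCover m K).f j :=
    vPt_eq_chart v j hj
  rw [h1, Category.assoc]
  refine (congrArg (_ ≫ ·) ((chCover m K).ι_glueMorphisms _ _ j)).trans ?_
  rw [map_lineBC e s ψ hg]
  refine lineBC_eq_of_smul e s hj.unit⁻¹.isUnit (funext fun i => ?_) j j hj _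
  have h := evalAway_ratio (eval₂Hom (algebraMap K R) v) j i (by simpa using hj)
  simp only [eval₂Hom_X'] at h
  show g (ratio j i) = ↑hj.unit⁻¹ * v i
  rw [← h, mul_comm, mul_assoc]
  exact (mul_one _).symm.trans (congrArg _ hj.mul_val_inv.symm)

theorem phi_bcTo : phi e s ≫ BrSev.bcTo p K = CohB1.ProjSpace.toSpec m K := by
  refine (chCover m K).hom_ext _ _ fun j => ?_
  rw [← Category.assoc]
  refine (congrArg (· ≫ _) ((chCover m K).ι_glueMorphisms _ _ j)).trans ?_
  refine (toBC_bcTo _).trans ((vPt_toSpec (chV (K := K) j) j (isUnit_chV j)).symm.trans ?_)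
  rw [← chart_eq_vPt]
  rfl

theorem mono_phi : Mono (phi e s) := by
  refine ⟨fun {T} r r' h => Scheme.hom_ext_of_forall _ _ fun x => ?_⟩
  obtain ⟨i, hi⟩ := TopologicalSpace.Opens.mem_iSup.mp ((iSup_basicOpen_X m K).ge (x := r x) trivial)
  obtain ⟨j, hj⟩ := TopologicalSpace.Opens.mem_iSup.mp ((iSup_basicOpen_X m K).ge (x := r' x) trivial)
  obtain ⟨U, hU, hxU, hle⟩ := exists_isAffineOpen_mem_and_subset
    (U := r ⁻¹ᵁ Proj.basicOpen (CohB1.polyGrading m K) (MvPolynomial.X i) ⊓
      r' ⁻¹ᵁ Proj.basicOpen (CohB1.polyGrading m K) (MvPolynomial.X j)) (show x ∈ _ from ⟨hi, hj⟩)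
  refine ⟨U, hxU, ?_⟩
  rw [← cancel_epi hU.isoSpec.inv, ← Category.assoc, ← Category.assoc, hU.isoSpec_inv_ι]
  let R : Type u := Γ(T, U)
  let a : Spec (CommRingCat.of R) ⟶ CohB1.ProjSpace m K := hU.fromSpec ≫ r
  let a' : Spec (CommRingCat.of R) ⟶ CohB1.ProjSpace m K := hU.fromSpec ≫ r'
  let : Algebra K R := (Spec.preimage (a ≫ CohB1.ProjSpace.toSpec m K)).hom.toAlgebra
  let : Algebra k R := ((algebraMap K R).comp (algebraMap k K)).toAlgebra
  have : IsScalarTower k K R := IsScalarTower.of_algebraMap_eq' rfl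
  have ha : a ≫ CohB1.ProjSpace.toSpec m K = Spec.map (CommRingCat.ofHom (algebraMap K R)) :=
    (Spec.map_preimage _).symm
  have ha' : a' ≫ CohB1.ProjSpace.toSpec m K = Spec.map (CommRingCat.ofHom (algebraMap K R)) := by
    rw [← ha]
    simp only [a, a', Category.assoc, ← phi_bcTo e s, reassoc_of% h]
  have hpre : ∀ (q : T ⟶ CohB1.ProjSpace m K) (V : (CohB1.ProjSpace m K).Opens), U ≤ q ⁻¹ᵁ V →
      (hU.fromSpec ≫ q) ⁻¹ᵁ V = ⊤ := fun q V hq => by
    rw [Scheme.Hom.comp_preimage, eq_top_iff]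
    intro y _
    exact hq (hU.range_fromSpec.le ⟨y, rfl⟩)
  obtain ⟨v, hv, hav⟩ := exists_eq_vPt a ha i (hpre r _ (hle.trans inf_le_left))
  obtain ⟨w, hw, haw⟩ := exists_eq_vPt a' ha' j (hpre r' _ (hle.trans inf_le_right))
  show a = a'
  have h' : a ≫ phi e s = a' ≫ phi e s := by simp only [a, a', Category.assoc, h]
  rw [hav, haw, vPt_phi, vPt_phi] at h'
  rw [hav, haw]
  exact vPt_eq_of_lineBC_eq e s h'

theorem exists_lift (x : BrSev.bc p K) :
    ∃ (S : CommRingCat.{u}) (j : Spec S ⟶ BrSev.bc p K) (σ : Spec S ⟶ CohB1.ProjSpace m K),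
      IsOpenImmersion j ∧ x ∈ Set.range j ∧ σ ≫ phi e s = j := by
  obtain ⟨W, hW, hxW, -⟩ := exists_isAffineOpen_mem_and_subset (U := ⊤) (x := x) trivial
  obtain ⟨q, hq⟩ : x ∈ Set.range hW.fromSpec := hW.range_fromSpec.ge hxW
  let R : Type u := Γ(BrSev.bc p K, W)
  let : Algebra K R := (Spec.preimage (hW.fromSpec ≫ BrSev.bcTo p K)).hom.toAlgebra
  let : Algebra k R := ((algebraMap K R).comp (algebraMap k K)).toAlgebra
  have : IsScalarTower k K R := IsScalarTower.of_algebraMap_eq' rfl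
  have hK : hW.fromSpec ≫ BrSev.bcTo p K = Spec.map (CommRingCat.ofHom (algebraMap K R)) :=
    (Spec.map_preimage _).symm
  let g : BrSev.Pts p R := ⟨hW.fromSpec ≫ BrSev.proj p K, by
    rw [Category.assoc, pullback.condition, ← Category.assoc, hK, specMap_algebraMap]⟩
  have hg : toBC K g = hW.fromSpec :=
    pullback.hom_ext (toBC_proj g) ((toBC_bcTo g).trans hK.symm)
  let N := s.bij R g
  let i₀ : Fin (m + 1) := 0
  let q' : PrimeSpectrum R := q
  let P : Ideal R := q'.asIdeal
  let L := Localization.AtPrime P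
  let l : R →ₐ[k] L := IsScalarTower.toAlgHom k R L
  have hlK : ∀ c : K, l (algebraMap K R c) = algebraMap K L c := fun c =>
    (IsScalarTower.algebraMap_apply K R L c).symm
  obtain ⟨v, j, hj, hv⟩ := exists_linePt e (Nat.succ_pos m) (sbMap l N)
  have hrow : ∀ u ∈ rows e N i₀, ∃ a : L, (l ∘ u : Fin (m + 1) → L) = a • v := by
    intro u hu
    have h1 := bcA_mem_map l N.1 hu
    rw [show (Module.Grassmannian.map l N.1).toSubmodule = line e v from
      (congrArg (fun I : Pt k A _ L => I.1.toSubmodule) hv), mem_line,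
      psi_bcA e l hlK] at h1
    obtain ⟨b, hb⟩ := h1
    erw [AlgEquiv.apply_symm_apply] at hb
    refine ⟨b i₀, funext fun i => ?_⟩
    simpa [Matrix.vecMulVec_apply] using congrFun (congrFun hb i₀) i
  -- a row with a unit coordinate at `P`
  obtain ⟨w, hwN, hwj⟩ : ∃ w ∈ rows e N i₀, w j ∉ P := by
    by_contra! hall
    have hle : (sbMap l N).1.toSubmodule ≤ Submodule.comap
        ((LinearMap.proj j ∘ₗ LinearMap.proj i₀ ∘ₗ (psi e L).toLinearMap :
          L ⊗[k] A →ₗ[L] L)) (IsLocalRing.maximalIdeal L) := by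
      rw [sbMap_toSubmodule, map_eq_span, Submodule.span_le]
      rintro _ ⟨y, hy, rfl⟩
      show psi e L (bcA l y) i₀ j ∈ IsLocalRing.maximalIdeal L
      rw [psi_bcA e l hlK]
      show algebraMap R L (psi e R y i₀ j) ∈ IsLocalRing.maximalIdeal L
      rw [IsLocalization.AtPrime.to_map_mem_maximal_iff L P]
      exact hall _ ((mem_iff_rows e N i₀).mp hy i₀)
    have hmem : (psi e L).symm (Matrix.vecMulVec (Pi.single i₀ 1) v) ∈ (sbMap l N).1.toSubmodule := by
      rw [hv, linePt_toSubmodule, mem_line]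
      exact ⟨_, AlgEquiv.apply_symm_apply _ _⟩
    have h2 := hle hmem
    have h3 : psi e L ((psi e L).symm (Matrix.vecMulVec (Pi.single i₀ 1) v)) i₀ j ∈
        IsLocalRing.maximalIdeal L := h2
    rw [AlgEquiv.apply_symm_apply, Matrix.vecMulVec_apply, Pi.single_eq_same, one_mul] at h3
    exact (IsLocalRing.mem_maximalIdeal _).mp h3 hj
  obtain ⟨a₀, ha₀⟩ := hrow w hwN
  have hkill : ∀ u ∈ rows e N i₀, ∀ i, l (u i * w j - u j * w i) = 0 := by
    intro u hu i
    obtain ⟨a, ha⟩ := hrow u hu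
    have e₁ : ∀ i, l (u i) = a * v i := fun i => congrFun ha i
    have e₂ : ∀ i, l (w i) = a₀ * v i := fun i => congrFun ha₀ i
    rw [map_sub, map_mul, map_mul, e₁, e₁, e₂, e₂]
    ring
  obtain ⟨t, ht⟩ := exists_retraction e N i₀
  let gen : Fin (m + 1) → (Fin (m + 1) → R) := fun a => (t (Pi.single a 1) : Fin (m + 1) → R)
  choose h₀ hh₀ using fun ai : Fin (m + 1) × Fin (m + 1) =>
    (IsLocalization.map_eq_zero_iff P.primeCompl L
      (gen ai.1 ai.2 * w j - gen ai.1 j * w ai.2)).mp (hkill _ (t _).2 ai.2)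
  let H : R := (∏ ai, (h₀ ai : R)) * w j
  have hH : H ∉ P := fun hP => (Ideal.IsPrime.mem_or_mem inferInstance hP).elim
    (show (∏ ai, (h₀ ai : R)) ∈ P.primeCompl from Submonoid.prod_mem _ fun ai _ => (h₀ ai).2) hwj
  let S := Localization.Away H
  let φ : R →ₐ[k] S := IsScalarTower.toAlgHom k R S
  have hφK : ∀ c : K, φ (algebraMap K R c) = algebraMap K S c := fun c =>
    (IsScalarTower.algebraMap_apply K R S c).symm
  have hHu : IsUnit (φ H) := IsLocalization.Away.algebraMap_isUnit H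
  rw [map_mul, IsUnit.mul_iff] at hHu
  have hwS : IsUnit ((φ ∘ w) j) := hHu.2
  have hgen : ∀ a i, φ (gen a i) * φ (w j) = φ (gen a j) * φ (w i) := fun a i => by
    rw [← sub_eq_zero, ← map_mul, ← map_mul, ← map_sub]
    refine hHu.1.mul_right_eq_zero.mp ?_
    rw [← map_mul, ← Finset.mul_prod_erase Finset.univ _ (Finset.mem_univ (a, i)), mul_comm (h₀ (a, i) : R),
      mul_assoc, hh₀ (a, i), mul_zero, map_zero]
  have hrows : ∀ u ∈ rows e N i₀, ∃ b : S, (φ ∘ u : Fin (m + 1) → S) = b • (φ ∘ w) := by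
    intro u hu
    have hu' : u = ∑ a, u a • gen a :=
      calc u = (t u : Fin (m + 1) → R) := (congrArg Subtype.val (ht ⟨u, hu⟩)).symm
        _ = (t (∑ a, u a • Pi.single a 1) : Fin (m + 1) → R) := by rw [← pi_eq_sum_univ' u]
        _ = _ := by simp [gen]
    refine ⟨φ (u j) * ↑hwS.unit⁻¹, funext fun i => ?_⟩
    have h1 : φ (u i) * φ (w j) = φ (u j) * φ (w i) := by
      rw [hu']
      simp only [Finset.sum_apply, Pi.smul_apply, smul_eq_mul, map_sum, map_mul]
      refine (Finset.sum_mul _ _ _).trans (Eq.trans ?_ (Finset.sum_mul _ _ _).symm)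
      exact Finset.sum_congr rfl fun a _ => by rw [mul_assoc, hgen, mul_assoc]
    show φ (u i) = φ (u j) * ↑hwS.unit⁻¹ * φ (w i)
    rw [mul_right_comm, ← h1, mul_assoc]
    exact (mul_one _).symm.trans (congrArg _ hwS.mul_val_inv.symm)
  have hN : sbMap φ N = linePt e (φ ∘ w) j hwS := by
    refine Pt.ext' (le_antisymm ?_ ?_)
    · rw [sbMap_toSubmodule, map_eq_span, Submodule.span_le, linePt_toSubmodule]
      rintro _ ⟨y, hy, rfl⟩
      choose b hb using fun r => hrows _ ((mem_iff_rows e N i₀).mp hy r)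
      refine (mem_line e).mpr ⟨b, Matrix.ext fun r i => ?_⟩
      rw [psi_bcA e φ hφK, Matrix.map_apply, Matrix.vecMulVec_apply]
      exact congrFun (hb r) i
    · rw [linePt_toSubmodule]
      intro y hy
      rw [mem_line] at hy
      obtain ⟨b, hb⟩ := hy
      rw [mem_iff_rows e (sbMap φ N) i₀]
      intro r
      rw [hb, show Matrix.vecMulVec b (φ ∘ w) r = b r • (φ ∘ w) from rfl]
      refine Submodule.smul_mem _ _ ?_
      rw [mem_rows, sbMap_toSubmodule]
      rw [show (psi e S).symm (Matrix.vecMulVec (Pi.single i₀ 1) (φ ∘ w)) =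
          bcA φ ((psi e R).symm (Matrix.vecMulVec (Pi.single i₀ 1) w)) from by
        refine (psi e S).injective ?_
        rw [AlgEquiv.apply_symm_apply, psi_bcA e φ hφK, AlgEquiv.apply_symm_apply]
        ext a b'
        simp [Matrix.vecMulVec_apply, Pi.single_apply, apply_ite φ]]
      exact bcA_mem_map φ N.1 ((mem_rows e N i₀).mp hwN)
  refine ⟨CommRingCat.of S, Spec.map (CommRingCat.ofHom (φ : R →+* S)) ≫ hW.fromSpec,
    vPt K (φ ∘ w) j hwS, ?_, ?_, ?_⟩
  · have : IsOpenImmersion (Spec.map (CommRingCat.ofHom (φ : R →+* S))) :=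
      IsOpenImmersion.of_isLocalization H
    infer_instance
  · obtain ⟨z, hz⟩ := (PrimeSpectrum.localization_away_comap_range S H).ge
      (show q ∈ (PrimeSpectrum.basicOpen H : Set (PrimeSpectrum R)) from hH)
    exact ⟨z, (congrArg hW.fromSpec hz).trans hq⟩
  · rw [vPt_phi, lineBC, ← hN, bij_symm_natural, ← map_toBC φ hφK, Equiv.symm_apply_apply, hg]

include e s in
theorem nonempty_splitting : Nonempty (BrSev.Splitting p K m) := by
  have := mono_phi e s
  choose S j σ hj hx hσ using exists_lift e s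
  let 𝒰 : (BrSev.bc p K).OpenCover :=
    Scheme.Cover.mkOfCovers (BrSev.bc p K) (fun x => Spec (S x)) j
      (fun x => ⟨x, hx x⟩) hj
  let ψ : BrSev.bc p K ⟶ CohB1.ProjSpace m K := 𝒰.glueMorphisms σ fun x y => by
    rw [← cancel_mono (phi e s), Category.assoc, Category.assoc]
    exact (congrArg (_ ≫ ·) (hσ x)).trans (pullback.condition.trans (congrArg (_ ≫ ·) (hσ y)).symm)
  have h1 : ψ ≫ phi e s = 𝟙 _ := 𝒰.hom_ext _ _ fun x => by
    rw [← Category.assoc, Category.comp_id]
    exact (congrArg (· ≫ phi e s) (𝒰.ι_glueMorphisms _ _ x)).trans (hσ x)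
  refine ⟨⟨⟨ψ, phi e s, h1, ?_⟩, ?_⟩⟩
  · rw [← cancel_mono (phi e s), Category.assoc, h1, Category.comp_id, Category.id_comp]
  · show ψ ≫ _ = _
    rw [← phi_bcTo e s, reassoc_of% h1]

end

end GrothLib.SBAut21
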