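import Groth.Prelude.Def_BrSev2
import Mathlib.RingTheory.Flat.Basic
import Mathlib.LinearAlgebra.TensorProduct.RightExactness
import Mathlib.LinearAlgebra.TensorProduct.Quotient
import Mathlib.RingTheory.LocalProperties.Submodule
import Mathlib.RingTheory.Localization.BaseChange
import Mathlib.RingTheory.Localization.AtPrime.Basic

/-!
# The functor of left ideals with projective quotient

Base change of points, right multiplication by units, natural endomorphisms.
-/

universe u

open scoped TensorProduct
open Module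

namespace GrothLib.SBAut21

noncomputable section

variable {k : Type u} [Field k] {A : Type u} [Ring A] [Algebra k A] {c : ℕ}
  {R S T : Type u} [CommRing R] [Algebra k R] [CommRing S] [Algebra k S] [CommRing T] [Algebra k T]

/-- Base change of elements. -/
abbrev bcA (f : R →ₐ[k] S) : R ⊗[k] A →ₐ[k] S ⊗[k] A :=
  Algebra.TensorProduct.map f (AlgHom.id k A)

theorem bcA_smul (f : R →ₐ[k] S) (r : R) (x : R ⊗[k] A) :
    bcA f (r • x) = f r • bcA f x := by
  rw [Algebra.smul_def, map_mul, Algebra.smul_def, Algebra.TensorProduct.algebraMap_apply,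
    Algebra.TensorProduct.algebraMap_apply, Algebra.TensorProduct.map_tmul, map_one]
  rfl

theorem bcA_bcA (f : R →ₐ[k] S) (g : S →ₐ[k] T) (x : R ⊗[k] A) :
    bcA g (bcA f x) = bcA (g.comp f) x := by
  induction x using TensorProduct.induction_on with
  | zero => simp
  | tmul r a => simp
  | add x y hx hy => simp [hx, hy]

variable (f : R →ₐ[k] S) (N : Grassmannian R (R ⊗[k] A) c)

/-- The quotient map on the base change, on the image of an element. -/
theorem baseChangeMkQ_bcA (x : R ⊗[k] A) :
    letI : Algebra R S := f.toAlgebra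
    letI : IsScalarTower k R S := IsScalarTower.of_algebraMap_eq' f.comp_algebraMap.symm
    Grassmannian.baseChangeMkQ S N.toSubmodule (bcA f x) = (1 : S) ⊗ₜ[R] N.toSubmodule.mkQ x := by
  let : Algebra R S := f.toAlgebra
  let : IsScalarTower k R S := IsScalarTower.of_algebraMap_eq' f.comp_algebraMap.symm
  induction x using TensorProduct.induction_on with
  | zero => rw [map_zero, map_zero]; exact (TensorProduct.tmul_zero _ (1 : S)).symm
  | add x y hx hy => simp only [map_add, hx, hy, TensorProduct.tmul_add]
  | tmul r a =>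
    rw [Algebra.TensorProduct.map_tmul]
    simp only [Grassmannian.baseChangeMkQ, LinearMap.comp_apply, LinearEquiv.coe_coe,
      TensorProduct.AlgebraTensorModule.cancelBaseChange_symm_tmul, LinearMap.baseChange_tmul]
    have h : (r ⊗ₜ[k] AlgHom.id k A a : R ⊗[k] A) = r • ((1 : R) ⊗ₜ[k] a) := by
      rw [TensorProduct.smul_tmul', smul_eq_mul, mul_one]; rfl
    rw [show (r ⊗ₜ[k] a : R ⊗[k] A) = r • ((1 : R) ⊗ₜ[k] a) from h, map_smul, TensorProduct.tmul_smul,
      TensorProduct.smul_tmul', show r • (1 : S) = f r from by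
        rw [Algebra.smul_def, mul_one]; rfl]
    rfl

theorem bcA_mem_map {x : R ⊗[k] A} (hx : x ∈ N.toSubmodule) :
    bcA f x ∈ (Grassmannian.map f N).toSubmodule := by
  rw [Grassmannian.map_toSubmodule, LinearMap.mem_ker, baseChangeMkQ_bcA,
    (Submodule.Quotient.mk_eq_zero _).mpr hx |> fun h => (show N.toSubmodule.mkQ x = 0 from h),
    TensorProduct.tmul_zero]

theorem map_eq_span :
    (Grassmannian.map f N).toSubmodule = Submodule.span S (bcA f '' (N.toSubmodule : Set (R ⊗[k] A))) := by
  refine le_antisymm ?_ (Submodule.span_le.mpr fun y ⟨x, hx, h⟩ => h ▸ bcA_mem_map f N hx)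
  let : Algebra R S := f.toAlgebra
  let : IsScalarTower k R S := IsScalarTower.of_algebraMap_eq' f.comp_algebraMap.symm
  intro y hy
  rw [Grassmannian.map_toSubmodule, LinearMap.mem_ker] at hy
  let cb := TensorProduct.AlgebraTensorModule.cancelBaseChange k R S S A
  have hex : Function.Exact (N.toSubmodule.subtype.lTensor S) (N.toSubmodule.mkQ.lTensor S) :=
    lTensor_exact S (LinearMap.exact_subtype_mkQ _) N.toSubmodule.mkQ_surjective
  obtain ⟨z, hz⟩ := (hex (cb.symm y)).mp hy
  rw [← cb.apply_symm_apply y, ← hz]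
  clear hz hy
  induction z using TensorProduct.induction_on with
  | zero => simp
  | add z w hz hw => rw [map_add, map_add]; exact add_mem hz hw
  | tmul s m =>
    rw [LinearMap.lTensor_tmul, Submodule.subtype_apply]
    have : ∀ x : R ⊗[k] A, cb (s ⊗ₜ[R] x) = s • bcA f x := fun x => by
      induction x using TensorProduct.induction_on with
      | zero => simp
      | add x y hx hy => simp only [TensorProduct.tmul_add, map_add, smul_add, hx, hy]
      | tmul r a =>
        rw [TensorProduct.AlgebraTensorModule.cancelBaseChange_tmul, Algebra.TensorProduct.map_tmul,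
          TensorProduct.smul_tmul', Algebra.smul_def, smul_eq_mul, mul_comm s]
        rfl
    rw [this]
    exact Submodule.smul_mem _ _ (Submodule.subset_span ⟨m, m.2, rfl⟩)

theorem mem_iff_bcA_mem (hf : Function.Injective f) (x : R ⊗[k] A) :
    x ∈ N.toSubmodule ↔ bcA f x ∈ (Grassmannian.map f N).toSubmodule := by
  refine ⟨bcA_mem_map f N, fun h => ?_⟩
  let : Algebra R S := f.toAlgebra
  let : IsScalarTower k R S := IsScalarTower.of_algebraMap_eq' f.comp_algebraMap.symm
  rw [Grassmannian.map_toSubmodule, LinearMap.mem_ker, baseChangeMkQ_bcA] at h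
  have hinj : Function.Injective (TensorProduct.mk R S ((R ⊗[k] A) ⧸ N.toSubmodule) 1) := by
    have h1 := Module.Flat.rTensor_preserves_injective_linearMap
      (M := (R ⊗[k] A) ⧸ N.toSubmodule) (Algebra.linearMap R S) hf
    have h2 : ⇑(TensorProduct.mk R S ((R ⊗[k] A) ⧸ N.toSubmodule) 1) =
        (Algebra.linearMap R S).rTensor _ ∘ (TensorProduct.lid R _).symm := by
      funext q; simp
    rw [h2]
    exact h1.comp (TensorProduct.lid R _).symm.injective
  exact (Submodule.Quotient.mk_eq_zero _).mp (hinj (h.trans (TensorProduct.tmul_zero _ _).symm))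

theorem tmul_mkQ_eq_zero {x : R ⊗[k] A} (h : bcA f x ∈ (Grassmannian.map f N).toSubmodule) :
    letI : Algebra R S := f.toAlgebra
    (1 : S) ⊗ₜ[R] N.toSubmodule.mkQ x = 0 := by
  let : Algebra R S := f.toAlgebra
  let : IsScalarTower k R S := IsScalarTower.of_algebraMap_eq' f.comp_algebraMap.symm
  rwa [Grassmannian.map_toSubmodule, LinearMap.mem_ker, baseChangeMkQ_bcA] at h

theorem eq_zero_of_forall_maximal {R : Type u} [CommRing R] {Q : Type u} [AddCommGroup Q] [Module R Q]
    (q : Q) (h : ∀ (m : Ideal R) [m.IsMaximal], (1 : Localization.AtPrime m) ⊗ₜ[R] q = 0) : q = 0 := by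
  by_contra hne
  obtain ⟨m, hm, hle⟩ := ((Submodule.span R {q}).annihilator).exists_le_maximal fun htop => hne (by
    have h1 : (1 : R) ∈ (Submodule.span R {q}).annihilator := htop ▸ Submodule.mem_top
    simpa using Submodule.mem_annihilator.mp h1 q (Submodule.mem_span_singleton_self q))
  obtain ⟨s, hs⟩ := (IsLocalizedModule.eq_zero_iff m.primeCompl
    (TensorProduct.mk R (Localization.AtPrime m) Q 1)).mp (h m)
  exact s.2 (hle ((Submodule.mem_annihilator_span_singleton q (s : R)).mpr hs))

theorem mem_of_forall_maximal {x : R ⊗[k] A}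
    (h : ∀ (m : Ideal R) [m.IsMaximal],
      bcA (IsScalarTower.toAlgHom k R (Localization.AtPrime m)) x ∈
        (Grassmannian.map (IsScalarTower.toAlgHom k R (Localization.AtPrime m)) N).toSubmodule) :
    x ∈ N.toSubmodule := by
  refine (Submodule.Quotient.mk_eq_zero _).mp (eq_zero_of_forall_maximal (R := R) (Q := (R ⊗[k] A) ⧸ N.toSubmodule) _ fun m _ => ?_)
  have hm := tmul_mkQ_eq_zero (IsScalarTower.toAlgHom k R (Localization.AtPrime m)) N (h m)
  have halg : (IsScalarTower.toAlgHom k R (Localization.AtPrime m)).toAlgebra =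
      (inferInstance : Algebra R (Localization.AtPrime m)) := Algebra.algebra_ext _ _ fun r => rfl
  convert hm using 0
  rw [halg]
  rfl

variable (k A c R) in
/-- Points of the functor. -/
abbrev Pt := BrSev.SBSet k A c R

theorem Pt.ext' {I J : Pt k A c R} (h : I.1.toSubmodule = J.1.toSubmodule) : I = J :=
  Subtype.ext (Grassmannian.ext h)

/-- Base change of a point. -/
def sbMap (I : Pt k A c R) : Pt k A c S :=
  ⟨Grassmannian.map f I.1, fun a x hx => by
    rw [map_eq_span] at hx ⊢
    refine Submodule.span_induction (p := fun x _ => a * x ∈ Submodule.span S _) ?_ ?_ ?_ ?_ hx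
    · rintro _ ⟨y, hy, rfl⟩
      induction a using TensorProduct.induction_on with
      | zero => simp
      | add a b ha hb => rw [add_mul]; exact add_mem ha hb
      | tmul s a =>
        have e : (s ⊗ₜ[k] a : S ⊗[k] A) = s • bcA f ((1 : R) ⊗ₜ[k] a) := by
          rw [Algebra.TensorProduct.map_tmul, map_one, TensorProduct.smul_tmul', smul_eq_mul,
            mul_one]; rfl
        rw [e, smul_mul_assoc, ← map_mul]
        exact Submodule.smul_mem _ _ (Submodule.subset_span ⟨_, I.2 _ y hy, rfl⟩)
    · simp
    · intro x y _ _ hx hy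
      rw [mul_add]; exact add_mem hx hy
    · intro r x _ hx
      rw [mul_smul_comm]; exact Submodule.smul_mem _ r hx⟩

theorem sbMap_toSubmodule (I : Pt k A c R) :
    (sbMap f I).1.toSubmodule = (Grassmannian.map f I.1).toSubmodule := rfl

theorem sbMap_sbMap (g : S →ₐ[k] T) (I : Pt k A c R) : sbMap g (sbMap f I) = sbMap (g.comp f) I :=
  Subtype.ext (Grassmannian.map_comp c f g I.1).symm

theorem sbMap_injective (hf : Function.Injective f) :
    Function.Injective (sbMap f : Pt k A c R → Pt k A c S) := fun I J h => Pt.ext' (by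
  ext x
  rw [mem_iff_bcA_mem f I.1 hf, mem_iff_bcA_mem f J.1 hf]
  rw [show Grassmannian.map f I.1 = Grassmannian.map f J.1 from congrArg Subtype.val h])

theorem eq_of_forall_maximal {I J : Pt k A c R}
    (h : ∀ (m : Ideal R) [m.IsMaximal],
      sbMap (IsScalarTower.toAlgHom k R (Localization.AtPrime m)) I =
        sbMap (IsScalarTower.toAlgHom k R (Localization.AtPrime m)) J) : I = J := by
  refine Pt.ext' (le_antisymm (fun x hx => ?_) (fun x hx => ?_))
  · refine mem_of_forall_maximal J.1 fun m _ => ?_
    rw [← show Grassmannian.map _ I.1 = Grassmannian.map _ J.1 from congrArg Subtype.val (h m)]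
    exact bcA_mem_map _ _ hx
  · refine mem_of_forall_maximal I.1 fun m _ => ?_
    rw [show Grassmannian.map _ I.1 = Grassmannian.map _ J.1 from congrArg Subtype.val (h m)]
    exact bcA_mem_map _ _ hx

/-- Right multiplication by a unit, as a linear equivalence. -/
def rightMulEquiv (a : (R ⊗[k] A)ˣ) : (R ⊗[k] A) ≃ₗ[R] (R ⊗[k] A) :=
  LinearEquiv.ofLinearMap (LinearMap.mulRight R (a : R ⊗[k] A)) (LinearMap.mulRight R (↑a⁻¹ : R ⊗[k] A))
    (LinearMap.ext fun x => by simp [mul_assoc]) (LinearMap.ext fun x => by simp [mul_assoc])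

/-- Right translation of a point by a unit. -/
def rmul (a : (R ⊗[k] A)ˣ) (I : Pt k A c R) : Pt k A c R :=
  letI e := Submodule.Quotient.equiv I.1.toSubmodule
    (I.1.toSubmodule.map (rightMulEquiv a).toLinearMap) (rightMulEquiv a) rfl
  ⟨{ toSubmodule := I.1.toSubmodule.map (rightMulEquiv a).toLinearMap
     finite_quotient := Module.Finite.equiv e
     projective_quotient := Module.Projective.of_equiv e
     rankAtStalk_eq := fun p => by
       rw [← rankAtStalk_eq_of_equiv e]; exact I.1.rankAtStalk_eq p },
   fun b x hx => by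
    obtain ⟨y, hy, rfl⟩ := hx
    exact ⟨b * y, I.2 b y hy, mul_assoc b y _⟩⟩

theorem mem_rmul (a : (R ⊗[k] A)ˣ) (I : Pt k A c R) (x : R ⊗[k] A) :
    x ∈ (rmul a I).1.toSubmodule ↔ x * ↑a⁻¹ ∈ I.1.toSubmodule := by
  constructor
  · rintro ⟨y, hy, rfl⟩
    simpa [rightMulEquiv, mul_assoc] using hy
  · intro h
    exact ⟨_, h, by simp [rightMulEquiv, mul_assoc]⟩

theorem rmul_one (I : Pt k A c R) : rmul 1 I = I :=
  Pt.ext' (Submodule.ext fun x => by rw [mem_rmul]; simp)

theorem rmul_rmul (a b : (R ⊗[k] A)ˣ) (I : Pt k A c R) : rmul b (rmul a I) = rmul (a * b) I :=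
  Pt.ext' (Submodule.ext fun x => by simp [mem_rmul, mul_assoc])

theorem sbMap_rmul (a : (R ⊗[k] A)ˣ) (I : Pt k A c R) :
    sbMap f (rmul a I) = rmul (Units.map (bcA f).toMonoidHom a) (sbMap f I) := by
  refine Pt.ext' ?_
  show (Grassmannian.map f (rmul a I).1).toSubmodule =
    (Grassmannian.map f I.1).toSubmodule.map (rightMulEquiv _).toLinearMap
  rw [map_eq_span, map_eq_span, Submodule.map_span, ← Set.image_comp]
  congr 1
  show bcA f '' ((rightMulEquiv a) '' _) = _
  rw [← Set.image_comp]
  refine Set.image_congr' fun x => ?_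
  simp [rightMulEquiv]

variable (k A c) in
/-- A natural endomorphism of the functor of points. -/
structure NatEnd where
  /-- the map on points -/
  app : ∀ (R : Type u) [CommRing R] [Algebra k R], Pt k A c R → Pt k A c R
  /-- naturality -/
  natural : ∀ {R S : Type u} [CommRing R] [Algebra k R] [CommRing S] [Algebra k S] (f : R →ₐ[k] S)
    (I : Pt k A c R), app S (sbMap f I) = sbMap f (app R I)

end

end GrothLib.SBAut21
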