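import Groth.Agent.Lib.SBAut21.Split
import Groth.Agent.Lib.CSA.Splitting
import Mathlib.FieldTheory.IsAlgClosed.AlgebraicClosure
import Mathlib.LinearAlgebra.Dual.Lemmas

/-!
# Natural automorphisms of the functor of left ideals come from units
-/

universe u

open scoped TensorProduct
open Module

namespace GrothLib.SBAut21

noncomputable section

variable {k : Type u} [Field k] {A : Type u} [Ring A] [Algebra k A] {c : ℕ}

variable (R : Type u) [CommRing R] [Algebra k R] in
/-- A unit of `A`, in a base change. -/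
abbrev incl (a : Aˣ) : (R ⊗[k] A)ˣ :=
  Units.map (Algebra.TensorProduct.includeRight : A →ₐ[k] R ⊗[k] A).toMonoidHom a

variable {R S : Type u} [CommRing R] [Algebra k R] [CommRing S] [Algebra k S]

theorem map_incl (f : R →ₐ[k] S) (a : Aˣ) : Units.map (bcA f).toMonoidHom (incl R a) = incl S a := by
  refine Units.ext ?_
  show bcA f ((1 : R) ⊗ₜ[k] (a : A)) = (1 : S) ⊗ₜ[k] (a : A)
  rw [Algebra.TensorProduct.map_tmul, map_one]
  rfl

theorem rmul_scalar (r : Rˣ) (I : Pt k A c R) :
    rmul (Units.map (algebraMap R (R ⊗[k] A)).toMonoidHom r) I = I := by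
  refine Pt.ext' (Submodule.ext fun x => ?_)
  have hx : x * (↑(Units.map (algebraMap R (R ⊗[k] A)).toMonoidHom r)⁻¹ : R ⊗[k] A) = (↑r⁻¹ : R) • x := by
    rw [Algebra.smul_def, Algebra.commutes]
    congr 1
  rw [mem_rmul, hx]
  exact ⟨fun h => by simpa [smul_smul] using I.1.toSubmodule.smul_mem (r : R) h,
    fun h => I.1.toSubmodule.smul_mem _ h⟩

variable (R) in
/-- A functional on `A`, on a base change. -/
def func (ℓ : A →ₗ[k] k) : R ⊗[k] A →ₗ[R] R :=
  (TensorProduct.AlgebraTensorModule.rid k R R).toLinearMap ∘ₗ ℓ.baseChange R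

theorem func_tmul (ℓ : A →ₗ[k] k) (r : R) (a : A) : func R ℓ (r ⊗ₜ a) = ℓ a • r := by
  simp [func]

theorem func_bcA (ℓ : A →ₗ[k] k) (f : R →ₐ[k] S) (x : R ⊗[k] A) :
    func S ℓ (bcA f x) = f (func R ℓ x) := by
  induction x using TensorProduct.induction_on with
  | zero => simp
  | tmul r a => simp [func_tmul]
  | add x y hx hy => simp [hx, hy]

theorem sum_func_smul {ι : Type u} [Fintype ι] (b : Basis ι k A) (x : R ⊗[k] A) :
    x = ∑ i, func R (b.coord i) x • ((1 : R) ⊗ₜ[k] b i) := by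
  induction x using TensorProduct.induction_on with
  | zero => simp
  | tmul r a =>
    conv_lhs => rw [← b.sum_repr a, TensorProduct.tmul_sum]
    refine Finset.sum_congr rfl fun i _ => ?_
    rw [func_tmul, TensorProduct.smul_tmul', smul_eq_mul, mul_one, TensorProduct.smul_tmul,
      Basis.coord_apply]
  | add x y hx hy =>
    simp only [map_add, add_smul, Finset.sum_add_distrib]
    rw [← hx, ← hy]

theorem mem_range_algebraMap_of_tmul_eq {B : Type u} [Ring B] [Algebra k B] {r : R} {b : B}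
    (h : (r ⊗ₜ[k] (1 : B) : R ⊗[k] B) = (1 : R) ⊗ₜ[k] b) (hR : Nontrivial R) :
    b ∈ (algebraMap k B).range := by
  by_contra hb
  obtain ⟨μ, hμb, hμ1⟩ := Submodule.exists_dual_map_eq_bot_of_notMem
    (p := Submodule.span k {(1 : B)}) (x := b) (fun hm => hb (by
      obtain ⟨t, rfl⟩ := Submodule.mem_span_singleton.mp hm
      exact ⟨t, Algebra.algebraMap_eq_smul_one t⟩)) inferInstance
  have h1 : μ 1 = 0 := by
    have : μ 1 ∈ (Submodule.span k {(1 : B)}).map μ := Submodule.mem_map_of_mem (Submodule.mem_span_singleton_self 1)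
    rwa [hμ1, Submodule.mem_bot] at this
  have h2 := congrArg (fun z => TensorProduct.rid k R (LinearMap.lTensor R μ z)) h
  simp only [LinearMap.lTensor_tmul, TensorProduct.rid_tmul, h1, zero_smul] at h2
  exact hμb (by simpa [Algebra.smul_def] using h2.symm)

variable [Algebra.IsCentral k A] [IsSimpleRing A] [FiniteDimensional k A] {n : ℕ}

theorem exists_splitting (hA : finrank k A = n * n) :
    Nonempty (AlgebraicClosure k ⊗[k] A ≃ₐ[AlgebraicClosure k]
      Matrix (Fin n) (Fin n) (AlgebraicClosure k)) := by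
  obtain ⟨m, -, ⟨e⟩⟩ := GrothLib.CSA.splits_algClosed (A := A) (k := k) (AlgebraicClosure k)
  have h := e.toLinearEquiv.finrank_eq
  rw [finrank_baseChange, hA, finrank_matrix] at h
  simp only [Fintype.card_fin, finrank_self, mul_one] at h
  obtain rfl : n = m := Nat.mul_self_inj.mp h
  exact ⟨e⟩

/-- A natural automorphism is right translation by a unit of `A`. -/
theorem exists_unit (hn : 0 < n) (hA : finrank k A = n * n) (η η' : NatEnd k A (n * n - n))
    (hinv : ∀ (R : Type u) [CommRing R] [Algebra k R] (I : Pt k A (n * n - n) R),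
      η'.app R (η.app R I) = I) :
    ∃ a : Aˣ, ∀ (R : Type u) [CommRing R] [Algebra k R] (I : Pt k A (n * n - n) R),
      η.app R I = rmul (incl R a) I := by
  classical
  let K := AlgebraicClosure k
  obtain ⟨e⟩ := exists_splitting (k := k) (A := A) hA
  obtain ⟨a₁, ha₁⟩ := exists_unit_of_natEnd e η η' hn hinv
  let ι := Basis.ofVectorSpaceIndex k A
  let b := Basis.ofVectorSpace k A
  have : Fintype ι := FiniteDimensional.fintypeBasisIndex b
  obtain ⟨i₀, hi₀⟩ : ∃ i, func K (b.coord i) (a₁ : K ⊗[k] A) ≠ 0 := by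
    by_contra! h0
    have : Nontrivial (K ⊗[k] A) := by
      have := e.toEquiv.nontrivial_congr.mpr
        (by have : Nonempty (Fin n) := ⟨⟨0, hn⟩⟩; infer_instance)
      exact this
    exact a₁.ne_zero ((sum_func_smul b _).trans (Finset.sum_eq_zero fun i _ => by rw [h0 i, zero_smul]))
  let s : Kˣ := (Units.mk0 _ hi₀)⁻¹
  let a₂ : (K ⊗[k] A)ˣ := Units.map (algebraMap K (K ⊗[k] A)).toMonoidHom s * a₁
  have ha₂ : ∀ (R : Type u) [CommRing R] [Algebra k R] [Algebra K R] [IsScalarTower k K R]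
      (I : Pt k A (n * n - n) R),
      η.app R I = rmul (Units.map (bcA (IsScalarTower.toAlgHom k K R)).toMonoidHom a₂) I := by
    intro R _ _ _ _ I
    rw [map_mul, ← rmul_rmul, ha₁ R I]
    congr 1
    rw [show Units.map (bcA (IsScalarTower.toAlgHom k K R)).toMonoidHom
      (Units.map (algebraMap K (K ⊗[k] A)).toMonoidHom s) =
        Units.map (algebraMap R (R ⊗[k] A)).toMonoidHom (Units.map (algebraMap K R).toMonoidHom s) from
      Units.ext (by simp [Algebra.TensorProduct.algebraMap_apply]), rmul_scalar]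
  have hf₂ : func K (b.coord i₀) (a₂ : K ⊗[k] A) = 1 := by
    show func K (b.coord i₀) (algebraMap K (K ⊗[k] A) (s : K) * (a₁ : K ⊗[k] A)) = 1
    rw [← Algebra.smul_def, map_smul, smul_eq_mul]
    exact (Units.mk0 _ hi₀).inv_mul
  -- the two pullbacks to `K ⊗ K` agree
  let KK := K ⊗[k] K
  let φ₁ : K →ₐ[k] KK := Algebra.TensorProduct.includeLeft
  let φ₂ : K →ₐ[k] KK := Algebra.TensorProduct.includeRight
  let x₁ := Units.map (bcA (A := A) φ₁).toMonoidHom a₂
  let x₂ := Units.map (bcA (A := A) φ₂).toMonoidHom a₂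
  have h₁ : ∀ I : Pt k A (n * n - n) KK, η.app KK I = rmul x₁ I := fun I => by
    rw [ha₂ KK I]
    rfl
  have h₂ : ∀ I : Pt k A (n * n - n) KK, η.app KK I = rmul x₂ I := fun I => by
    have key : ∀ (alg : Algebra K KK) (ht : @IsScalarTower k K KK _ alg.toSMul _),
        η.app KK I = rmul (Units.map (bcA (A := A) (@IsScalarTower.toAlgHom k K KK _ _ _ _ alg _ ht)).toMonoidHom a₂) I :=
      fun alg ht => @ha₂ KK _ _ alg ht I
    exact key φ₂.toAlgebra (@IsScalarTower.of_algebraMap_eq' k K KK _ _ _ _ φ₂.toAlgebra _ φ₂.comp_algebraMap.symm)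
  obtain ⟨r, hr⟩ := exists_scalar_of_forall_rmul (R := KK) e hn (x₁ * x₂⁻¹) fun I => by
    rw [← rmul_rmul, ← h₁, h₂, rmul_rmul, mul_inv_cancel, rmul_one]
  have hr' : (x₁ : KK ⊗[k] A) = (r : KK) • (x₂ : KK ⊗[k] A) := by
    rw [Algebra.smul_def, ← hr, Units.val_mul, mul_assoc, Units.inv_mul, mul_one]
  have hr1 : (r : KK) = 1 := by
    have h3 := congrArg (func KK (b.coord i₀)) hr'
    rw [map_smul, show func KK (b.coord i₀) (x₁ : KK ⊗[k] A) = 1 by
      show func KK _ (bcA φ₁ _) = 1; rw [func_bcA, hf₂, map_one],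
      show func KK (b.coord i₀) (x₂ : KK ⊗[k] A) = 1 by
      show func KK _ (bcA φ₂ _) = 1; rw [func_bcA, hf₂, map_one], smul_eq_mul, mul_one] at h3
    exact h3.symm
  rw [hr1, one_smul] at hr'
  have hcoord : ∀ i, ∃ t : k, func K (b.coord i) (a₂ : K ⊗[k] A) = algebraMap k K t := fun i => by
    have h3 := congrArg (func KK (b.coord i)) hr'
    change func KK _ (bcA φ₁ _) = func KK _ (bcA φ₂ _) at h3
    rw [func_bcA, func_bcA] at h3
    obtain ⟨t, ht⟩ := mem_range_algebraMap_of_tmul_eq (R := K) (B := K) h3 inferInstance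
    exact ⟨t, ht.symm⟩
  choose t ht using hcoord
  let a₀ : A := ∑ i, t i • b i
  have ha₀ : (a₂ : K ⊗[k] A) = (1 : K) ⊗ₜ[k] a₀ := by
    rw [sum_func_smul b (a₂ : K ⊗[k] A), TensorProduct.tmul_sum]
    refine Finset.sum_congr rfl fun i _ => ?_
    rw [ht, algebraMap_smul, TensorProduct.tmul_smul]
  have hu : IsUnit a₀ := by
    have hinj : Function.Injective (LinearMap.mulLeft k a₀) := fun y z h => by
      refine Algebra.TensorProduct.includeRight_injective (A := K) (R := k) (FaithfulSMul.algebraMap_injective k K) ?_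
      refine a₂.isUnit.mul_left_cancel ?_
      simp only [ha₀, Algebra.TensorProduct.includeRight_apply, Algebra.TensorProduct.tmul_mul_tmul]
      exact congrArg (fun z => (1 * 1 : K) ⊗ₜ[k] z) h
    obtain ⟨y, hy⟩ := LinearMap.injective_iff_surjective.mp hinj 1
    refine isUnit_iff_exists.mpr ⟨y, hy, hinj ?_⟩
    show a₀ * (y * a₀) = a₀ * 1
    rw [← mul_assoc, show a₀ * y = 1 from hy, one_mul, mul_one]
  refine ⟨hu.unit, fun R _ _ I => ?_⟩
  let RK := K ⊗[k] R
  let f : R →ₐ[k] RK := Algebra.TensorProduct.includeRight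
  refine sbMap_injective f (Algebra.TensorProduct.includeRight_injective
    (FaithfulSMul.algebraMap_injective k K)) ?_
  rw [← η.natural, ha₂ RK, sbMap_rmul]
  congr 1
  refine Units.ext ?_
  show bcA (IsScalarTower.toAlgHom k K RK) (a₂ : K ⊗[k] A) = bcA f ((1 : R) ⊗ₜ[k] (hu.unit : A))
  rw [ha₀, IsUnit.unit_spec, Algebra.TensorProduct.map_tmul, Algebra.TensorProduct.map_tmul,
    map_one, map_one]

/-- Only scalars fix every point. -/
theorem mem_range_of_forall_rmul (hn : 0 < n) (hA : finrank k A = n * n) (a : Aˣ)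
    (h : ∀ (R : Type u) [CommRing R] [Algebra k R] (I : Pt k A (n * n - n) R),
      rmul (incl R a) I = I) :
    a ∈ (Units.map (algebraMap k A : k →* A)).range := by
  obtain ⟨e⟩ := exists_splitting (k := k) (A := A) hA
  let K := AlgebraicClosure k
  obtain ⟨r, hr⟩ := exists_scalar_of_forall_rmul (R := K) e hn (incl K a) fun I => h K I
  obtain ⟨t, ht⟩ := mem_range_algebraMap_of_tmul_eq (R := K) (B := A) (r := (r : K)) (b := (a : A))
    (by rw [← show ((incl K a : (K ⊗[k] A)ˣ) : K ⊗[k] A) = (1 : K) ⊗ₜ[k] (a : A) from rfl, hr,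
      Algebra.TensorProduct.algebraMap_apply]; rfl) inferInstance
  have hA0 : Nontrivial A := inferInstance
  refine ⟨Units.mk0 t fun e0 => a.ne_zero (by rw [← ht, e0, map_zero]), Units.ext ht⟩

end

end GrothLib.SBAut21
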