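import Groth.Agent.Lib.SBAut21.Basic
import Mathlib.RingTheory.MatrixAlgebra
import Mathlib.LinearAlgebra.Matrix.ToLin
import Mathlib.RingTheory.OrzechProperty
import Mathlib.LinearAlgebra.FreeModule.Finite.Basic
import Mathlib.RingTheory.LocalRing.Module
import Mathlib.RingTheory.Spectrum.Prime.FreeLocus
import Mathlib.RingTheory.TensorProduct.Free
import Mathlib.LinearAlgebra.Dimension.Constructions

/-!
# Points of the functor of left ideals of a split algebra
-/

universe u

open scoped TensorProduct
open Module Matrix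

namespace GrothLib.SBAut21

noncomputable section

variable {k : Type u} [Field k] {A : Type u} [Ring A] [Algebra k A] {n : ℕ}
  {K : Type u} [Field K] [Algebra k K] (e : K ⊗[k] A ≃ₐ[K] Matrix (Fin n) (Fin n) K)
  (R : Type u) [CommRing R] [Algebra k R] [Algebra K R] [IsScalarTower k K R]

/-- The splitting over a `K`-algebra, as a map. -/
def psiHom : R ⊗[k] A →ₐ[R] Matrix (Fin n) (Fin n) R :=
  Algebra.TensorProduct.lift (Algebra.ofId R _)
    ((IsScalarTower.toAlgHom k K R).mapMatrix.comp
      ((e.toAlgHom.restrictScalars k).comp Algebra.TensorProduct.includeRight))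
    (fun r _ => Algebra.commutes r _)

theorem psiHom_tmul (r : R) (a : A) :
    psiHom e R (r ⊗ₜ a) = r • ((e (1 ⊗ₜ a)).map (algebraMap K R)) := by
  refine (Algebra.TensorProduct.lift_tmul _ _ _ r a).trans ?_
  rw [Algebra.ofId_apply, ← Algebra.smul_def]
  rfl

theorem psiHom_bijective [FiniteDimensional k A] : Function.Bijective (psiHom e R) := by
  have hs : Function.Surjective (psiHom e R) := by
    intro M
    show M ∈ LinearMap.range (psiHom e R).toLinearMap
    rw [matrix_eq_sum_single M]
    refine Submodule.sum_mem _ fun i _ => Submodule.sum_mem _ fun j _ => ?_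
    have h1 : ∀ y : K ⊗[k] A, (e y).map (algebraMap K R) ∈ LinearMap.range (psiHom e R).toLinearMap := by
      intro y
      induction y using TensorProduct.induction_on with
      | zero => simp
      | add x y hx hy => rw [map_add, Matrix.map_add _ (map_add _)]; exact add_mem hx hy
      | tmul c a =>
        refine ⟨algebraMap K R c ⊗ₜ a, ?_⟩
        refine (psiHom_tmul e R _ _).trans ?_
        rw [show (c ⊗ₜ[k] a : K ⊗[k] A) = c • ((1 : K) ⊗ₜ[k] a) by
          rw [TensorProduct.smul_tmul', smul_eq_mul, mul_one], map_smul]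
        ext i j; simp [Matrix.smul_apply]
    have h2 := h1 (e.symm (single i j 1))
    rw [e.apply_symm_apply, show (single i j (1 : K)).map (algebraMap K R) = single i j (1 : R) by
      ext a b; simp [single_apply, apply_ite (algebraMap K R)]] at h2
    rw [show single i j (M i j) = M i j • single i j (1 : R) by rw [smul_single, smul_eq_mul, mul_one]]
    exact Submodule.smul_mem _ _ h2
  refine ⟨?_, hs⟩
  rcases subsingleton_or_nontrivial R with hR | hR
  · intro x y _
    have : Subsingleton (R ⊗[k] A) := Module.subsingleton R _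
    exact Subsingleton.elim x y
  have hrank : finrank R (Matrix (Fin n) (Fin n) R) = finrank R (R ⊗[k] A) := by
    rw [finrank_matrix, Module.finrank_baseChange, ← Module.finrank_baseChange (R := K) (M' := A),
      e.toLinearEquiv.finrank_eq, finrank_matrix, finrank_self, finrank_self]
  let g : Matrix (Fin n) (Fin n) R ≃ₗ[R] R ⊗[k] A := LinearEquiv.ofFinrankEq _ _ hrank
  have := OrzechProperty.injective_of_surjective_endomorphism
    (g.toLinearMap ∘ₗ (psiHom e R).toLinearMap) (g.surjective.comp hs)
  exact fun x y h => this (congrArg g h)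

variable [FiniteDimensional k A]

/-- The splitting over a `K`-algebra. -/
def psi : R ⊗[k] A ≃ₐ[R] Matrix (Fin n) (Fin n) R := AlgEquiv.ofBijective _ (psiHom_bijective e R)

variable {R}

theorem psi_bcA {S : Type u} [CommRing S] [Algebra k S] [Algebra K S] [IsScalarTower k K S]
    (f : R →ₐ[k] S) (hf : ∀ c : K, f (algebraMap K R c) = algebraMap K S c) (x : R ⊗[k] A) :
    psi e S (bcA f x) = (psi e R x).map f := by
  show psiHom e S (bcA f x) = (psiHom e R x).map f
  induction x using TensorProduct.induction_on with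
  | zero => simp
  | add x y hx hy => rw [map_add, map_add, map_add, Matrix.map_add _ (map_add f), hx, hy]
  | tmul r a =>
    rw [Algebra.TensorProduct.map_tmul, psiHom_tmul, psiHom_tmul]
    ext i j
    simp [hf]

variable (R) in
/-- The map from column vectors to the left ideal of a row vector. -/
def lineMap (v : Fin n → R) : (Fin n → R) →ₗ[R] R ⊗[k] A :=
  (psi e R).symm.toLinearMap ∘ₗ
    ({ toFun := fun u => vecMulVec u v
       map_add' := fun u w => add_vecMulVec u w v
       map_smul' := fun r u => smul_vecMulVec r u v } : (Fin n → R) →ₗ[R] Matrix (Fin n) (Fin n) R)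

/-- The left ideal of matrices whose rows are multiples of `v`. -/
def line (v : Fin n → R) : Submodule R (R ⊗[k] A) := LinearMap.range (lineMap e R v)

theorem mem_line {v : Fin n → R} {x : R ⊗[k] A} :
    x ∈ line e v ↔ ∃ u, psi e R x = vecMulVec u v := by
  constructor
  · rintro ⟨u, rfl⟩; exact ⟨u, (psi e R).apply_symm_apply _⟩
  · rintro ⟨u, hu⟩; exact ⟨u, (psi e R).injective (((psi e R).apply_symm_apply _).trans hu.symm)⟩

theorem line_mul_mem {v : Fin n → R} (a x : R ⊗[k] A) (hx : x ∈ line e v) : a * x ∈ line e v := by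
  obtain ⟨u, hu⟩ := (mem_line e).mp hx
  exact (mem_line e).mpr ⟨psi e R a *ᵥ u, by rw [map_mul, hu, mul_vecMulVec]⟩

/-- The projection modulo the left ideal of a row vector with a unit coordinate. -/
def lineProj (v : Fin n → R) (j : Fin n) (vj : R) :
    R ⊗[k] A →ₗ[R] (Fin n × {i : Fin n // i ≠ j} → R) where
  toFun x p := psi e R x p.1 p.2 - psi e R x p.1 j * vj * v p.2
  map_add' x y := by funext p; simp only [map_add, Matrix.add_apply, Pi.add_apply]; ring
  map_smul' r x := by
    funext p
    simp only [map_smul, Matrix.smul_apply, smul_eq_mul, Pi.smul_apply, RingHom.id_apply]; ring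

theorem lineProj_ker (v : Fin n → R) (j : Fin n) (vj : R) (hvj : vj * v j = 1) :
    LinearMap.ker (lineProj e v j vj) = line e v := by
  ext x
  rw [LinearMap.mem_ker, mem_line]
  constructor
  · intro h
    refine ⟨fun r => psi e R x r j * vj, ?_⟩
    ext r i
    rw [vecMulVec_apply]
    by_cases hi : i = j
    · rw [hi, mul_assoc, hvj, mul_one]
    · exact sub_eq_zero.mp (congrFun h (r, ⟨i, hi⟩))
  · rintro ⟨u, hu⟩
    funext p
    simp only [lineProj, LinearMap.coe_mk, AddHom.coe_mk, hu, vecMulVec_apply, Pi.zero_apply]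
    linear_combination -u p.1 * v p.2 * hvj

theorem lineProj_surjective (v : Fin n → R) (j : Fin n) (vj : R) :
    Function.Surjective (lineProj e v j vj) := by
  intro q
  refine ⟨(psi e R).symm (Matrix.of fun r i => if h : i = j then 0 else q (r, ⟨i, h⟩)), ?_⟩
  funext p
  simp [lineProj, p.2.2]

/-- The point given by a row vector with a unit coordinate. -/
def linePt (v : Fin n → R) (j : Fin n) (hj : IsUnit (v j)) : Pt k A (n * n - n) R :=
  letI g := (Submodule.quotEquivOfEq _ _ (lineProj_ker e v j ↑hj.unit⁻¹ hj.val_inv_mul).symm).trans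
    (LinearMap.quotKerEquivOfSurjective _ (lineProj_surjective e v j ↑hj.unit⁻¹))
  ⟨{ toSubmodule := line e v
     finite_quotient := Module.Finite.equiv g.symm
     projective_quotient := Module.Projective.of_equiv g.symm
     rankAtStalk_eq := fun p => by
       have : Nontrivial R := p.nontrivial
       rw [rankAtStalk_eq_of_equiv g, rankAtStalk_eq_finrank_of_free]
       show finrank R (Fin n × {i : Fin n // i ≠ j} → R) = _
       rw [finrank_fintype_fun_eq_card, Fintype.card_prod, Fintype.card_fin,
         Fintype.card_subtype_compl, Fintype.card_subtype_eq, Fintype.card_fin, Nat.mul_sub, mul_one] },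
   fun a x hx => line_mul_mem e a x hx⟩

theorem linePt_toSubmodule (v : Fin n → R) (j : Fin n) (hj : IsUnit (v j)) :
    (linePt e v j hj).1.toSubmodule = line e v := rfl

theorem sbMap_of_eq_line {S : Type u} [CommRing S] [Algebra k S] [Algebra K S] [IsScalarTower k K S]
    (f : R →ₐ[k] S) (hf : ∀ c : K, f (algebraMap K R c) = algebraMap K S c)
    {v : Fin n → R} {N : Pt k A (n * n - n) R} (hN : N.1.toSubmodule = line e v) :
    (sbMap f N).1.toSubmodule = line e (f ∘ v) := by
  rw [sbMap_toSubmodule, map_eq_span, hN]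
  refine le_antisymm (Submodule.span_le.mpr ?_) ?_
  · rintro _ ⟨x, hx, rfl⟩
    obtain ⟨u, hu⟩ := (mem_line e).mp hx
    exact (mem_line e).mpr ⟨f ∘ u, by
      rw [psi_bcA e f hf, hu]; ext r i; simp [vecMulVec_apply]⟩
  · rintro _ ⟨u, rfl⟩
    rw [pi_eq_sum_univ u, map_sum]
    refine Submodule.sum_mem _ fun i _ => ?_
    rw [map_smul]
    refine Submodule.smul_mem _ _ (Submodule.subset_span ⟨lineMap e R v (Pi.single i 1), ⟨_, rfl⟩, ?_⟩)
    refine (psi e S).injective ?_
    rw [psi_bcA e f hf]
    show (psi e R ((psi e R).symm _)).map f = psi e S ((psi e S).symm _)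
    rw [AlgEquiv.apply_symm_apply, AlgEquiv.apply_symm_apply]
    ext r i'
    simp [vecMulVec_apply, Pi.single_apply, eq_comm, apply_ite f]

theorem sbMap_linePt {S : Type u} [CommRing S] [Algebra k S] [Algebra K S] [IsScalarTower k K S]
    (f : R →ₐ[k] S) (hf : ∀ c : K, f (algebraMap K R c) = algebraMap K S c)
    (v : Fin n → R) (j : Fin n) (hj : IsUnit (v j)) :
    sbMap f (linePt e v j hj) = linePt e (f ∘ v) j (hj.map f) :=
  Pt.ext' (sbMap_of_eq_line e f hf (linePt_toSubmodule e v j hj))

section Point

variable (N : Pt k A (n * n - n) R) (i₀ : Fin n)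

/-- The rows of the elements of a point. -/
def rows : Submodule R (Fin n → R) :=
  N.1.toSubmodule.comap ((psi e R).symm.toLinearMap ∘ₗ
    ({ toFun := fun v => vecMulVec (Pi.single i₀ 1) v
       map_add' := fun v w => vecMulVec_add _ v w
       map_smul' := fun r v => by ext a b; simp [vecMulVec_apply]; ring } : (Fin n → R) →ₗ[R] Matrix (Fin n) (Fin n) R))

theorem mem_rows {v : Fin n → R} :
    v ∈ rows e N i₀ ↔ (psi e R).symm (vecMulVec (Pi.single i₀ 1) v) ∈ N.1.toSubmodule := Iff.rfl

theorem mem_iff_rows {x : R ⊗[k] A} :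
    x ∈ N.1.toSubmodule ↔ ∀ r, psi e R x r ∈ rows e N i₀ := by
  constructor
  · intro hx r
    rw [mem_rows]
    convert N.2 ((psi e R).symm (single i₀ r 1)) x hx using 1
    refine (psi e R).injective ?_
    rw [AlgEquiv.apply_symm_apply, map_mul, AlgEquiv.apply_symm_apply]
    ext a b
    by_cases ha : a = i₀
    · subst ha; simp [vecMulVec_apply]
    · simp [vecMulVec_apply, ha]
  · intro h
    have : x = ∑ r, (psi e R).symm (single r i₀ 1) *
        (psi e R).symm (vecMulVec (Pi.single i₀ 1) (psi e R x r)) := by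
      refine (psi e R).injective ?_
      simp only [map_sum, map_mul, AlgEquiv.apply_symm_apply]
      ext a b
      rw [Matrix.sum_apply, Finset.sum_eq_single a]
      · simp [vecMulVec_apply]
      · intro r _ hr; simp [hr.symm]
      · simp
    rw [this]
    exact Submodule.sum_mem _ fun r _ => N.2 _ _ (h r)

/-- The quotient by a point is a power of the quotient of the rows. -/
def quotEquivPi :
    ((R ⊗[k] A) ⧸ N.1.toSubmodule) ≃ₗ[R] (Fin n → (Fin n → R) ⧸ rows e N i₀) :=
  (Submodule.quotEquivOfEq _ _ (Submodule.ext fun x => by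
      rw [mem_iff_rows e N i₀, LinearMap.mem_ker]
      simp [funext_iff, Submodule.Quotient.mk_eq_zero]; rfl)).trans
    (LinearMap.quotKerEquivOfSurjective
      (LinearMap.pi fun r => (rows e N i₀).mkQ ∘ₗ
        (LinearMap.proj r : Matrix (Fin n) (Fin n) R →ₗ[R] (Fin n → R)) ∘ₗ (psi e R).toLinearMap)
      (fun q => by
        choose w hw using fun r => (rows e N i₀).mkQ_surjective (q r)
        exact ⟨(psi e R).symm (Matrix.of w), funext fun r => (congrArg (rows e N i₀).mkQ
          (congrFun ((psi e R).apply_symm_apply (Matrix.of w)) r)).trans (hw r)⟩))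

theorem projective_rows_quot : Module.Projective R ((Fin n → R) ⧸ rows e N i₀) := by
  have : Module.Projective R (Fin n → (Fin n → R) ⧸ rows e N i₀) :=
    Module.Projective.of_equiv (quotEquivPi e N i₀)
  exact Module.Projective.of_split (LinearMap.single R (fun _ => (Fin n → R) ⧸ rows e N i₀) i₀)
    (LinearMap.proj i₀)
    (LinearMap.ext fun x => by simp)

theorem exists_retraction :
    ∃ s : (Fin n → R) →ₗ[R] rows e N i₀, ∀ v : rows e N i₀, s v = v := by
  have := projective_rows_quot e N i₀
  obtain ⟨t, ht⟩ := Module.projective_lifting_property (rows e N i₀).mkQ LinearMap.id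
    (rows e N i₀).mkQ_surjective
  refine ⟨(LinearMap.id - t ∘ₗ (rows e N i₀).mkQ).codRestrict _ fun v => ?_, fun v => Subtype.ext ?_⟩
  case refine_1 =>
    simp [(Submodule.Quotient.mk_eq_zero _).mpr v.2]
  case refine_2 =>
    rw [← Submodule.Quotient.mk_eq_zero]
    have := LinearMap.congr_fun ht ((rows e N i₀).mkQ v)
    simp only [LinearMap.comp_apply, LinearMap.id_apply, Submodule.mkQ_apply] at this
    simp [this]

theorem span_coord_eq_top [IsDomain R] {v : Fin n → R} (hv : v ≠ 0)
    (h : rows e N i₀ = Submodule.span R {v}) : Ideal.span (Set.range v) = ⊤ := by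
  obtain ⟨s, hs⟩ := exists_retraction e N i₀
  have hvm : v ∈ rows e N i₀ := h ▸ Submodule.mem_span_singleton_self v
  choose c hc using fun i => Submodule.mem_span_singleton.mp
    (h ▸ (s (Pi.single i 1)).2 : (s (Pi.single i 1) : Fin n → R) ∈ Submodule.span R {v})
  have h2 : (∑ i, v i * c i) • v = (1 : R) • v := by
    rw [one_smul]
    have h3 : (s v : Fin n → R) = v := congrArg Subtype.val (hs ⟨v, hvm⟩)
    conv_rhs => rw [← h3]
    rw [Finset.sum_smul, show s v = ∑ i, v i • s (Pi.single i 1) by
      conv_lhs => rw [pi_eq_sum_univ' v, map_sum]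
      simp only [map_smul]]
    simp [mul_smul, hc]
  obtain ⟨i, hi⟩ := Function.ne_iff.mp hv
  have h4 : ∑ i, v i * c i = 1 := mul_right_cancel₀ hi (congrFun h2 i)
  rw [Ideal.eq_top_iff_one, ← h4]
  exact Ideal.sum_mem _ fun i _ => Ideal.mul_mem_right _ _ (Ideal.subset_span ⟨i, rfl⟩)

theorem toSubmodule_eq_line {v : Fin n → R} (h : rows e N i₀ = Submodule.span R {v}) :
    N.1.toSubmodule = line e v := by
  ext x
  rw [mem_iff_rows e N i₀, h, mem_line]
  constructor
  · intro hx
    choose u hu using fun r => Submodule.mem_span_singleton.mp (hx r)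
    exact ⟨u, Matrix.ext fun r i => by rw [vecMulVec_apply, ← hu r]; rfl⟩
  · rintro ⟨u, hu⟩ r
    exact Submodule.mem_span_singleton.mpr ⟨u r, funext fun i => by rw [hu]; rfl⟩

end Point

/-- Over a local ring every point is given by a row vector with a unit coordinate. -/
theorem exists_linePt [IsLocalRing R] (hn : 0 < n) (N : Pt k A (n * n - n) R) :
    ∃ (v : Fin n → R) (j : Fin n) (hj : IsUnit (v j)), N = linePt e v j hj := by
  let i₀ : Fin n := ⟨0, hn⟩
  have := projective_rows_quot e N i₀
  let Q := (Fin n → R) ⧸ rows e N i₀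
  have hQ : Module.Free R Q := Module.free_of_flat_of_isLocalRing
  have hrank : n * finrank R Q = n * n - n := by
    have h1 := N.1.rankAtStalk_eq ⟨IsLocalRing.maximalIdeal R, inferInstance⟩
    have : Module.Free R ((R ⊗[k] A) ⧸ N.1.toSubmodule) := Module.free_of_flat_of_isLocalRing
    rw [rankAtStalk_eq_finrank_of_free] at h1
    rw [← h1, (quotEquivPi e N i₀).finrank_eq, finrank_pi_fintype]
    simp [Q]
  obtain ⟨s, hs⟩ := exists_retraction e N i₀
  have hp : Module.Projective R (rows e N i₀) :=
    Module.Projective.of_split (rows e N i₀).subtype s (LinearMap.ext hs)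
  have : Module.Finite R (rows e N i₀) := Module.Finite.of_surjective s fun v => ⟨v, hs v⟩
  have : Module.Free R (rows e N i₀) := Module.free_of_flat_of_isLocalRing
  have h1 : finrank R (rows e N i₀) = 1 := by
    let g : (Fin n → R) ≃ₗ[R] rows e N i₀ × Q :=
      LinearEquiv.ofBijective (s.prod (rows e N i₀).mkQ) ⟨fun x y h => by
        have h1 : s x = s y := congrArg Prod.fst h
        have h2 : x - y ∈ rows e N i₀ := (Submodule.Quotient.eq _).mp (congrArg Prod.snd h)
        have h3 := hs ⟨x - y, h2⟩
        rw [map_sub, h1, sub_self] at h3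
        exact sub_eq_zero.mp (congrArg Subtype.val h3).symm, fun ⟨a, q⟩ => by
        obtain ⟨x, rfl⟩ := (rows e N i₀).mkQ_surjective q
        refine ⟨x + ((a - s x : rows e N i₀) : Fin n → R), Prod.ext ?_ ?_⟩
        · show s (x + ((a - s x : rows e N i₀) : Fin n → R)) = a
          rw [map_add, hs]
          abel
        · show (rows e N i₀).mkQ (x + ((a - s x : rows e N i₀) : Fin n → R)) = (rows e N i₀).mkQ x
          rw [map_add, Submodule.mkQ_apply, Submodule.mkQ_apply,
            (Submodule.Quotient.mk_eq_zero _).mpr (a - s x).2, add_zero]⟩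
    have h2 := g.finrank_eq
    rw [finrank_fintype_fun_eq_card, Fintype.card_fin, finrank_prod] at h2
    by_contra hne
    rcases Nat.eq_zero_or_pos (finrank R (rows e N i₀)) with h0 | h0
    · rw [h0, zero_add] at h2
      rw [← h2] at hrank
      have : n * n ≠ 0 := Nat.mul_ne_zero hn.ne' hn.ne'
      omega
    · have h3 : finrank R Q + 2 ≤ n := by omega
      have h4 := Nat.mul_le_mul_left n h3
      rw [mul_add] at h4
      omega
  let b := Module.basisUnique (Fin 1) h1
  let v : rows e N i₀ := b 0
  have hspan : rows e N i₀ = Submodule.span R {(v : Fin n → R)} := by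
    refine le_antisymm (fun x hx => Submodule.mem_span_singleton.mpr ⟨b.repr ⟨x, hx⟩ 0, ?_⟩)
      ((Submodule.span_singleton_le_iff_mem _ _).mpr v.2)
    have := congrArg Subtype.val (b.sum_repr ⟨x, hx⟩)
    simpa [v] using this
  obtain ⟨c, hc⟩ : ∃ c : Fin n → R, ∑ i, (v : Fin n → R) i * c i = 1 := by
    refine ⟨fun i => b.repr (s (Pi.single i 1)) 0, ?_⟩
    have h5 : s (v : Fin n → R) = ∑ i, (v : Fin n → R) i • s (Pi.single i 1) := by
      conv_lhs => rw [pi_eq_sum_univ' (v : Fin n → R), map_sum]
      simp only [map_smul]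
    rw [hs] at h5
    have h6 := congrArg (fun z => b.repr z 0) h5
    simpa [v] using h6.symm
  obtain ⟨j, hj⟩ : ∃ j, IsUnit ((v : Fin n → R) j) := by
    by_contra! hnu
    refine (IsLocalRing.maximalIdeal.isMaximal R).ne_top ((Ideal.eq_top_iff_one _).mpr ?_)
    rw [← hc]
    exact Ideal.sum_mem _ fun i _ => Ideal.mul_mem_right _ _ ((IsLocalRing.mem_maximalIdeal _).mpr (hnu i))
  exact ⟨v, j, hj, Pt.ext' (toSubmodule_eq_line e N i₀ hspan)⟩

end

end GrothLib.SBAut21
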