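import Groth.Agent.Lib.Ample.ProjMap
import Groth.Agent.Lib.Ample.VeryAmpleProd

/-!
# Points of projective space given by vectors with a unit coordinate
-/

universe u

set_option backward.isDefEq.respectTransparency false

open AlgebraicGeometry CategoryTheory MvPolynomial HomogeneousLocalization

namespace GrothLib.SBAut21

noncomputable section

open GrothLib GrothLib.Ample GrothLib.Ample.ProjMap

variable {m : ℕ} {K : Type u} [CommRing K] {R : Type u} [CommRing R] [Algebra K R]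

local notation "P" => CohB1.polyGrading m K

/-- Evaluation at a vector. -/
def ev (v : Fin (m + 1) → R) : MvPolynomial (Fin (m + 1)) K →+* Γ(Spec (CommRingCat.of R), ⊤) :=
  (Scheme.ΓSpecIso (CommRingCat.of R)).inv.hom.comp (eval₂Hom (algebraMap K R) v)

theorem ev_X (v : Fin (m + 1) → R) (i : Fin (m + 1)) :
    ev (K := K) v (X i) = (Scheme.ΓSpecIso (CommRingCat.of R)).inv (v i) := by simp [ev]

theorem isUnit_ev {v : Fin (m + 1) → R} {j : Fin (m + 1)} (hj : IsUnit (v j)) :
    IsUnit (ev (K := K) v (X j)) := by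
  rw [ev_X]; exact hj.map _

variable (K) in
/-- The point of projective space with homogeneous coordinates `v`. -/
def vPt (v : Fin (m + 1) → R) (j : Fin (m + 1)) (hj : IsUnit (v j)) :
    Spec (CommRingCat.of R) ⟶ CohB1.ProjSpace m K :=
  ProjPt.pt P (X_mem j) one_pos (ProjPt.evalAway P (ev v) (X j) (isUnit_ev hj))

theorem vPt_eq (v : Fin (m + 1) → R) (j l : Fin (m + 1)) (hj : IsUnit (v j)) (hl : IsUnit (v l)) :
    vPt K v j hj = vPt K v l hl :=
  ProjPt.pt_evalAway_eq P (X_mem j) one_pos _ _ (X_mem l) one_pos (isUnit_ev hl)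

theorem vPt_smul {v w : Fin (m + 1) → R} {c : R} (hw : w = c • v) (j : Fin (m + 1))
    (hj : IsUnit (v j)) (hj' : IsUnit (w j)) : vPt K w j hj' = vPt K v j hj := by
  subst hw
  refine congrArg (ProjPt.pt P (X_mem j) one_pos) (ProjPt.evalAway_eq_of_twist P _ _ (X_mem j) _ _
    ((Scheme.ΓSpecIso (CommRingCat.of R)).inv c) (map_eq_pow_mul _ _ _ (fun r => ?_) fun i => ?_))
  · simp [ev]
  · rw [ev_X, ev_X, ← map_mul]; rfl

theorem vPt_eq_of_smul {v w : Fin (m + 1) → R} {c : R} (hw : w = c • v) (j l : Fin (m + 1))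
    (hj : IsUnit (v j)) (hl : IsUnit (w l)) : vPt K w l hl = vPt K v j hj := by
  have hl' : IsUnit (v l) := by
    rw [hw, Pi.smul_apply, smul_eq_mul, IsUnit.mul_iff] at hl; exact hl.2
  exact (vPt_smul hw l hl' hl).trans (vPt_eq v l j hl' hj)

theorem toSpecΓ_SpecMap_inv (R : CommRingCat.{u}) :
    (Spec R).toSpecΓ ≫ Spec.map (Scheme.ΓSpecIso R).inv = 𝟙 _ := by
  rw [← Scheme.isoSpec_hom, Scheme.isoSpec_Spec_hom, ← Spec.map_comp, Iso.inv_hom_id, Spec.map_id]

theorem vPt_eq_chart (v : Fin (m + 1) → R) (j : Fin (m + 1)) (hj : IsUnit (v j)) :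
    vPt K v j hj = Spec.map (CommRingCat.ofHom (ProjPt.evalAway P (eval₂Hom (algebraMap K R) v) (X j)
      (by simpa using hj))) ≫ Proj.awayι P (X j) (X_mem j) one_pos := by
  unfold vPt ev
  rw [← ProjPt.comp_evalAway P _ _ (X_mem j) (by simpa using hj), ProjPt.pt,
    CommRingCat.ofHom_comp, Spec.map_comp, Category.assoc, CommRingCat.ofHom_hom, ← Category.assoc,
    toSpecΓ_SpecMap_inv, Category.id_comp]

theorem vPt_toSpec (v : Fin (m + 1) → R) (j : Fin (m + 1)) (hj : IsUnit (v j)) :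
    vPt K v j hj ≫ CohB1.ProjSpace.toSpec m K = Spec.map (CommRingCat.ofHom (algebraMap K R)) := by
  rw [vPt_eq_chart, Category.assoc]
  refine (congrArg (_ ≫ ·) (awayι_toSpec j)).trans ?_
  rw [← Spec.map_comp, ← CommRingCat.ofHom_comp]
  congr 2
  refine RingHom.ext fun r => ?_
  rw [RingHom.comp_apply, evalAway_cst, eval₂Hom_C]

theorem vPt_map {S : Type u} [CommRing S] [Algebra K S] (φ : R →+* S)
    (hφ : φ.comp (algebraMap K R) = algebraMap K S) (v : Fin (m + 1) → R) (j : Fin (m + 1))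
    (hj : IsUnit (v j)) :
    Spec.map (CommRingCat.ofHom φ) ≫ vPt K v j hj = vPt K (φ ∘ v) j (hj.map φ) := by
  rw [vPt_eq_chart, vPt_eq_chart, ← Category.assoc, ← Spec.map_comp, ← CommRingCat.ofHom_comp,
    ProjPt.comp_evalAway P φ _ (X_mem j)]
  congr 4
  exact MvPolynomial.ringHom_ext (fun r => by simp [← hφ]) fun i => by simp

theorem evalAway_chart (j : Fin (m + 1))
    (h : IsUnit (eval₂Hom (cst (X j)) (ratio (R := K) j) (X j))) :
    ProjPt.evalAway P (eval₂Hom (cst (X j)) (ratio j)) (X j) h = RingHom.id _ := by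
  refine awayHom_ext ?_ fun i => ?_
  · refine RingHom.ext fun r => ?_
    rw [RingHom.comp_apply, evalAway_cst, eval₂Hom_C]
    rfl
  · have h1 := evalAway_ratio (eval₂Hom (cst (X j)) (ratio j)) j i h
    simp only [eval₂Hom_X', ProjMap.ratio_self, mul_one] at h1
    exact h1

theorem exists_eq_vPt (r : Spec (CommRingCat.of R) ⟶ CohB1.ProjSpace m K)
    (hr : r ≫ CohB1.ProjSpace.toSpec m K = Spec.map (CommRingCat.ofHom (algebraMap K R)))
    (j : Fin (m + 1)) (h : r ⁻¹ᵁ Proj.basicOpen P (X j) = ⊤) :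
    ∃ (v : Fin (m + 1) → R) (hj : v j = 1), r = vPt K v j (hj ▸ isUnit_one) := by
  obtain ⟨g, hg⟩ := ProjPt.exists_eq_pt P (X_mem j) one_pos r h
  let g' : Away P (X j) →+* R := (Scheme.ΓSpecIso (CommRingCat.of R)).hom.hom.comp g
  have h1 : g' (ratio j j) = 1 := by
    rw [ProjMap.ratio_self]; exact map_one _
  have hr' : r = Spec.map (CommRingCat.ofHom g') ≫ Proj.awayι P (X j) (X_mem j) one_pos := by
    rw [hg, ProjPt.pt, CommRingCat.ofHom_comp, Spec.map_comp, Category.assoc,
      CommRingCat.ofHom_hom, ← Scheme.isoSpec_hom, Scheme.isoSpec_Spec_hom]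
  refine ⟨g' ∘ ratio j, h1, ?_⟩
  rw [vPt_eq_chart, hr']
  congr 3
  refine awayHom_ext ?_ fun i => ?_
  · refine RingHom.ext fun a => ?_
    have h2 := congrArg (fun q => Spec.preimage q) ((congrArg (· ≫ CohB1.ProjSpace.toSpec m K) hr').symm.trans hr)
    simp only [Category.assoc] at h2
    rw [show Proj.awayι P (X j) (X_mem j) one_pos ≫ CohB1.ProjSpace.toSpec m K = _ from awayι_toSpec j,
      ← Spec.map_comp, Spec.preimage_map, Spec.preimage_map, ← CommRingCat.ofHom_comp] at h2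
    refine (DFunLike.congr_fun (congrArg CommRingCat.Hom.hom h2) a).trans ?_
    rw [RingHom.comp_apply, evalAway_cst, eval₂Hom_C]
    rfl
  · have h2 := evalAway_ratio (eval₂Hom (algebraMap K R) (g' ∘ ratio j)) j i
      (by rw [eval₂Hom_X', Function.comp_apply, h1]; exact isUnit_one)
    simp only [eval₂Hom_X', Function.comp_apply, h1, mul_one] at h2
    exact h2.symm

/-- Vectors giving the same point are proportional. -/
theorem vPt_inj {v w : Fin (m + 1) → R} {j l : Fin (m + 1)} {hj : IsUnit (v j)} {hl : IsUnit (w l)}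
    (h : vPt K v j hj = vPt K w l hl) : ∃ c : R, IsUnit c ∧ w = c • v := by
  have hpre := congrArg (· ⁻¹ᵁ Proj.basicOpen P (X l : MvPolynomial (Fin (m + 1)) K)) h
  simp only [vPt] at hpre
  rw [ProjPt.pt_preimage_self, ProjPt.pt_evalAway_preimage_basicOpen P (X_mem j) one_pos _ _
    (X_mem l) one_pos, ev_X] at hpre
  have hvl : IsUnit (v l) := by
    rw [basicOpen_eq_of_affine] at hpre
    refine isUnit_iff_exists_inv.mpr ?_
    by_contra hc
    obtain ⟨M, hM, hle⟩ := exists_max_ideal_of_mem_nonunits (a := v l) (fun hu => hc hu.exists_right_inv)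
    have hmem : (⟨M, hM.isPrime⟩ : PrimeSpectrum R) ∈ PrimeSpectrum.basicOpen (v l) :=
      hpre.ge (x := (⟨M, hM.isPrime⟩ : PrimeSpectrum R)) trivial
    exact hmem hle
  rw [vPt_eq v j l hj hvl] at h
  have h1 := ProjPt.pt_injective P _ _ h
  refine ⟨w l * ↑hvl.unit⁻¹, hl.mul hvl.unit⁻¹.isUnit, funext fun i => ?_⟩
  have hev := evalAway_ratio (ev (K := K) v) l i (isUnit_ev hvl)
  have hew := evalAway_ratio (ev (K := K) w) l i (isUnit_ev hl)
  rw [h1] at hev
  simp only [ev_X] at hev hew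
  refine ((hvl.mul_left_inj).mp ?_)
  refine (ConcreteCategory.bijective_of_isIso (Scheme.ΓSpecIso (CommRingCat.of R)).inv).1 ?_
  rw [Pi.smul_apply, smul_eq_mul,
    show w l * ↑hvl.unit⁻¹ * v i * v l = w l * v i * (v l * ↑hvl.unit⁻¹) by ring, hvl.mul_val_inv,
    mul_one, map_mul, map_mul, ← hev, ← hew]
  ring

end

end GrothLib.SBAut21
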